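import Groth.Agent.Lef.K780.DepthY
import Groth.Agent.QGor.K966.DualPres
import Groth.Agent.CycA.IntLocal
import Groth.Agent.Fdesc.FinStalk
import Groth.Agent.AbVar.K513.Theta1
import Groth.Agent.Divis.CartierBasic

/-!
# Zero schemes of sections on a proper normal variety

* `two_le_depth`: a reflexive coherent module on a normal scheme has depth at least two where the dimension is at least
  two;
* `ne_zero_of_dim`, `isRegularIdeal_zeroScheme`;
* `one_lt_depth_add_dim`.
-/

set_option autoImplicit false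
universe u

open CategoryTheory CategoryTheory.Limits AlgebraicGeometry Opposite

namespace K780.AmpleY

open Groth.Agent Groth.Agent.Divis.CartierBasic Groth.Agent.Fdesc.LocGen Groth.Agent.Picfga.ZeroDef
open Groth.Agent.Pi1C.ZeroScheme

variable {X : Scheme.{u}}

theorem two_le_depth_stalk [IsLocallyNoetherian X] (hXn : Pi1.IsNormalScheme X) (x : X)
    (h : ¬ ringKrullDim (X.presheaf.stalk x) ≤ 1) :
    (2 : ℕ∞) ≤ LocCoh.depth (X.presheaf.stalk x) (X.presheaf.stalk x) := by
  obtain ⟨h1, h2⟩ := hXn x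
  exact Groth.Agent.CalgA.SerreLocal.two_le_depth_of_isIntegrallyClosed h

theorem two_le_depth [IsLocallyNoetherian X] (hXn : Pi1.IsNormalScheme X) {F : X.Modules} (hF : Coh.IsCoh F) (x : X)
    (hr : Module.IsReflexive (X.presheaf.stalk x) (F.presheaf.stalk x))
    (h : ¬ ringKrullDim (X.presheaf.stalk x) ≤ 1) :
    (2 : ℕ∞) ≤ LocCoh.depth (X.presheaf.stalk x) (F.presheaf.stalk x) := by
  have hfin := Groth.Agent.Fdesc.FinStalk.finite_stalk_of_isCoh F hF x
  exact K966.DualPres.two_le_idealDepth_of_isReflexive _ (two_le_depth_stalk hXn x h)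

theorem sec_zero {L : X.Modules} (U : X.Opens) : sec (0 : Coh.structureModule X ⟶ L) U = 0 := by
  simp [sec]

theorem support_zeroScheme_zero {L : X.Modules} (hL : PicF.IsInvertible L) (x : X) :
    x ∈ (PicF2.zeroScheme L (0 : Coh.structureModule X ⟶ L)).support := by
  obtain ⟨V, hV, hxV, -, e, he⟩ := exists_affine_isGen hL ⊤ x trivial
  have h1 : (PicF2.zeroScheme L (0 : Coh.structureModule X ⟶ L)).ideal ⟨V, hV⟩ = Ideal.span {0} :=
    ideal_eq_span _ hL ⟨V, hV⟩ he (by rw [zero_smul]; exact sec_zero V)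
  rw [mem_support_iff_stalkIdeal_ne_top, stalkIdeal_eq _ ⟨V, hV⟩ hxV, h1]
  intro h
  rw [Ideal.span_singleton_zero, Ideal.map_bot] at h
  exact bot_ne_top h

theorem dim_of_support_eq_univ {𝓘 : X.IdealSheafData} (h : ∀ x : X, x ∈ 𝓘.support) :
    topologicalKrullDim 𝓘.subscheme = topologicalKrullDim X := by
  refine IsHomeomorph.topologicalKrullDim_eq 𝓘.subschemeι ?_
  have h1 : Function.Surjective 𝓘.subschemeι := by
    intro x
    have : x ∈ Set.range 𝓘.subschemeι := by
      rw [𝓘.range_subschemeι]; exact h x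
    exact this
  have h2 : Topology.IsClosedEmbedding 𝓘.subschemeι := 𝓘.subschemeι.isClosedEmbedding
  rw [isHomeomorph_iff_isEmbedding_surjective]
  exact ⟨h2.toIsEmbedding, h1⟩

theorem ne_zero_of_dim {L : X.Modules} (hL : PicF.IsInvertible L) (s : Coh.structureModule X ⟶ L)
    (h : topologicalKrullDim (PicF2.zeroScheme L s).subscheme ≠ topologicalKrullDim X) : s ≠ 0 := by
  rintro rfl
  exact h (dim_of_support_eq_univ (support_zeroScheme_zero hL))

theorem isRegularIdeal_of_effCartier {𝓘 : X.IdealSheafData} (h : BlowUp.IsEffCartierIdeal 𝓘) :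
    RegImm.IsRegularIdeal RegImm.Kind.regular 𝓘 := by
  intro x hx
  obtain ⟨U, hxU, f, hf, hI⟩ := h x
  refine ⟨U, hxU, [f], ?_, ?_⟩
  · change RingTheory.Sequence.IsRegular Γ(X, U.1) [f]
    rw [RingTheory.Sequence.isRegular_iff]
    constructor
    · rw [RingTheory.Sequence.isWeaklyRegular_singleton_iff]
      exact isSMulRegular_iff_right_eq_zero_of_smul.2 fun m hm => (mem_nonZeroDivisors_iff.1 hf).1 m hm
    · intro h1
      rw [smul_eq_mul, Ideal.mul_top, Ideal.ofList_singleton, ← hI] at h1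
      rw [mem_support_iff_stalkIdeal_ne_top, stalkIdeal_eq _ U hxU, ← h1] at hx
      exact hx (Ideal.map_top _)
  · rw [hI, Ideal.ofList_singleton]

theorem one_lt_depth_add_dim {K : Type u} [Field K] (f : X ⟶ Spec (CommRingCat.of K)) [LocallyOfFiniteType f]
    [IsIntegral X] (hXn : Pi1.IsNormalScheme X) {d : ℕ} (hd : topologicalKrullDim X = d) (h3 : 3 ≤ d)
    {F : X.Modules} (hF : Coh.IsCoh F) (x : X)
    (hr : Module.IsReflexive (X.presheaf.stalk x) (F.presheaf.stalk x)) :
    (1 : WithBot ℕ∞) < (LocCoh.depth (X.presheaf.stalk x) (F.presheaf.stalk x) : WithBot ℕ∞) +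
        topologicalKrullDim ↥(closure ({x} : Set X)) := by
  have hN : IsLocallyNoetherian X := LocallyOfFiniteType.isLocallyNoetherian f
  obtain ⟨a, t, n, ha, -, ht, hn, hat⟩ := Groth.Agent.CycA.IntLocal.exists_dims f x
  rw [ht]
  have hdn : d = n := by
    rw [hd] at hn
    exact_mod_cast hn
  by_cases h : a ≤ 1
  · have h1 : (1 : WithBot ℕ∞) < (t : WithBot ℕ∞) := by
      have : 1 < t := by omega
      exact_mod_cast this
    refine lt_of_lt_of_le h1 ?_
    have h2 : (0 : WithBot ℕ∞) ≤ (LocCoh.depth (X.presheaf.stalk x) (F.presheaf.stalk x) : WithBot ℕ∞) :=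
      WithBot.coe_le_coe.2 bot_le
    calc (t : WithBot ℕ∞) = 0 + t := (zero_add _).symm
      _ ≤ _ := by gcongr
  · have h1 : (2 : ℕ∞) ≤ LocCoh.depth (X.presheaf.stalk x) (F.presheaf.stalk x) := by
      refine two_le_depth hXn hF x hr ?_
      rw [ha]
      intro h'
      exact h (by exact_mod_cast h')
    have h2 : (2 : WithBot ℕ∞) ≤ (LocCoh.depth (X.presheaf.stalk x) (F.presheaf.stalk x) : WithBot ℕ∞) :=
      WithBot.coe_le_coe.2 h1
    have h3 : (1 : WithBot ℕ∞) < 2 := by
      have : (1 : ℕ∞) < 2 := by norm_num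
      exact_mod_cast this
    refine lt_of_lt_of_le h3 (h2.trans ?_)
    have h4 : (0 : WithBot ℕ∞) ≤ (t : WithBot ℕ∞) := by positivity
    calc (LocCoh.depth (X.presheaf.stalk x) (F.presheaf.stalk x) : WithBot ℕ∞) =
        (LocCoh.depth (X.presheaf.stalk x) (F.presheaf.stalk x) : WithBot ℕ∞) + 0 := (add_zero _).symm
      _ ≤ _ := by gcongr

end K780.AmpleY
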