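import Mathlib.RingTheory.Filtration
import Mathlib.RingTheory.Noetherian.Basic

/-!
# Two consequences of the Artin–Rees lemma for adic families

* `exists_shift`, `exists_shift_range`;
* `mem_of_family`: a family of a submodule which is adically compatible and `I`-adically small in the big module is
  small;
* `exists_family`: lifting of adic families along the kernel of a map.
-/

set_option autoImplicit false

namespace K780.ArtinRees

variable {A : Type*} [CommRing A] [IsNoetherianRing A] (I : Ideal A)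
  {M0 M1 M2 : Type*} [AddCommGroup M0] [Module A M0] [AddCommGroup M1] [Module A M1]
  [AddCommGroup M2] [Module A M2]

/-- Artin–Rees for the range of a linear map. -/
theorem exists_shift_range [Module.Finite A M2] (β : M1 →ₗ[A] M2) :
    ∃ c : ℕ, ∀ (n : ℕ) (x : M1), β x ∈ I ^ (n + c) • (⊤ : Submodule A M2) →
      ∃ y ∈ I ^ n • (⊤ : Submodule A M1), β y = β x := by
  obtain ⟨c, hc⟩ := Ideal.exists_pow_inf_eq_pow_smul I (LinearMap.range β)
  refine ⟨c, fun n x hx => ?_⟩
  have h1 : β x ∈ I ^ (n + c) • (⊤ : Submodule A M2) ⊓ LinearMap.range β := ⟨hx, ⟨x, rfl⟩⟩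
  rw [hc (n + c) (Nat.le_add_left c n), Nat.add_sub_cancel] at h1
  have h2 : β x ∈ I ^ n • (LinearMap.range β) :=
    Submodule.smul_mono le_rfl inf_le_right h1
  rw [LinearMap.range_eq_map, ← Submodule.map_smul''] at h2
  obtain ⟨y, hy, hyx⟩ := h2
  exact ⟨y, hy, hyx⟩

theorem exists_shift [Module.Finite A M1] (α : M0 →ₗ[A] M1) (hα : Function.Injective α) :
    ∃ c : ℕ, ∀ (n : ℕ) (x : M0), α x ∈ I ^ (n + c) • (⊤ : Submodule A M1) →
      x ∈ I ^ n • (⊤ : Submodule A M0) := by
  obtain ⟨c, hc⟩ := exists_shift_range I α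
  refine ⟨c, fun n x hx => ?_⟩
  obtain ⟨y, hy, hyx⟩ := hc n x hx
  rwa [← hα hyx]

omit [IsNoetherianRing A] in
theorem sub_mem_add {x : ℕ → M1} (hx : ∀ n, x (n + 1) - x n ∈ I ^ (n + 1) • (⊤ : Submodule A M1)) (n k : ℕ) :
    x (n + k) - x n ∈ I ^ (n + 1) • (⊤ : Submodule A M1) := by
  induction k with
  | zero => simp
  | succ k ih =>
    have h1 : x (n + (k + 1)) - x n = (x (n + k + 1) - x (n + k)) + (x (n + k) - x n) := by
      rw [← Nat.add_assoc]; abel
    rw [h1]
    refine Submodule.add_mem _ ?_ ih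
    exact Submodule.smul_mono_left (Ideal.pow_le_pow_right (by omega)) (hx (n + k))

theorem mem_of_family [Module.Finite A M1] (α : M0 →ₗ[A] M1) (hα : Function.Injective α)
    (m : ℕ → M0) (hm : ∀ n, m (n + 1) - m n ∈ I ^ (n + 1) • (⊤ : Submodule A M0))
    (h : ∀ n, α (m n) ∈ I ^ (n + 1) • (⊤ : Submodule A M1)) (n : ℕ) :
    m n ∈ I ^ (n + 1) • (⊤ : Submodule A M0) := by
  obtain ⟨c, hc⟩ := exists_shift I α hα
  have h1 : m (n + c) ∈ I ^ (n + 1) • (⊤ : Submodule A M0) := by
    refine hc (n + 1) _ ?_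
    have h2 := h (n + c)
    rwa [show n + c + 1 = n + 1 + c by omega] at h2
  have h2 := sub_mem_add I hm n c
  have h3 : m n = m (n + c) - (m (n + c) - m n) := by abel
  rw [h3]
  exact Submodule.sub_mem _ h1 h2

theorem exists_family [Module.Finite A M1] [Module.Finite A M2] (α : M0 →ₗ[A] M1)
    (hα : Function.Injective α) (β : M1 →ₗ[A] M2) (hαβ : Function.Exact α β)
    (x : ℕ → M1) (hx : ∀ n, x (n + 1) - x n ∈ I ^ (n + 1) • (⊤ : Submodule A M1))
    (h : ∀ n, β (x n) ∈ I ^ (n + 1) • (⊤ : Submodule A M2)) :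
    ∃ m : ℕ → M0, (∀ n, m (n + 1) - m n ∈ I ^ (n + 1) • (⊤ : Submodule A M0)) ∧
      ∀ n, α (m n) - x n ∈ I ^ (n + 1) • (⊤ : Submodule A M1) := by
  obtain ⟨c2, hc2⟩ := exists_shift_range I β
  obtain ⟨c1, hc1⟩ := exists_shift I α hα
  have h1 : ∀ n, ∃ d ∈ I ^ (n + 1) • (⊤ : Submodule A M1), ∃ e : M0, α e = x (n + c2) - d := by
    intro n
    have h2 := h (n + c2)
    rw [show n + c2 + 1 = n + 1 + c2 by omega] at h2
    obtain ⟨d, hd, hd'⟩ := hc2 (n + 1) _ h2
    refine ⟨d, hd, ?_⟩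
    have h3 : β (x (n + c2) - d) = 0 := by rw [map_sub, hd', sub_self]
    exact (hαβ _).1 h3
  choose d hd e he using h1
  refine ⟨fun n => e (n + c1), fun n => ?_, fun n => ?_⟩
  · refine hc1 (n + 1) _ ?_
    rw [map_sub, he, he]
    have h4 : x (n + 1 + c1 + c2) - d (n + 1 + c1) - (x (n + c1 + c2) - d (n + c1)) =
        (x (n + c1 + c2 + 1) - x (n + c1 + c2)) - d (n + 1 + c1) + d (n + c1) := by
      rw [show n + 1 + c1 + c2 = n + c1 + c2 + 1 by omega]; abel
    rw [h4]
    refine Submodule.add_mem _ (Submodule.sub_mem _ ?_ ?_) ?_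
    · exact Submodule.smul_mono_left (Ideal.pow_le_pow_right (by omega)) (hx _)
    · exact Submodule.smul_mono_left (Ideal.pow_le_pow_right (by omega)) (hd _)
    · exact Submodule.smul_mono_left (Ideal.pow_le_pow_right (by omega)) (hd _)
  · rw [he]
    have h4 : x (n + c1 + c2) - d (n + c1) - x n = (x (n + (c1 + c2)) - x n) - d (n + c1) := by
      rw [← Nat.add_assoc]; abel
    rw [h4]
    refine Submodule.sub_mem _ (sub_mem_add I hx n _) ?_
    exact Submodule.smul_mono_left (Ideal.pow_le_pow_right (by omega)) (hd _)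

omit [IsNoetherianRing A] in
/-- `x ∈ J ^ (k)`-multiples in a finite power, componentwise. -/
theorem mem_smul_top_pi {ι : Type*} [Finite ι] (J : Ideal A) (x : ι → A) (h : ∀ i, x i ∈ J) :
    x ∈ J • (⊤ : Submodule A (ι → A)) := by
  classical
  have := Fintype.ofFinite ι
  have h1 : x = ∑ i, x i • (Pi.single i (1 : A) : ι → A) := by
    funext j
    simp [Finset.sum_apply, Pi.single_apply]
  rw [h1]
  exact Submodule.sum_mem _ fun i _ => Submodule.smul_mem_smul (h i) trivial

omit [IsNoetherianRing A] in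
theorem apply_mem_of_mem_smul_top {ι : Type*} (J : Ideal A) (x : ι → A)
    (h : x ∈ J • (⊤ : Submodule A (ι → A))) (i : ι) : x i ∈ J := by
  have h1 : (LinearMap.proj i : (ι → A) →ₗ[A] A) x ∈ J • (⊤ : Submodule A A) := by
    have h2 := Submodule.mem_map_of_mem (f := (LinearMap.proj i : (ι → A) →ₗ[A] A)) h
    rw [Submodule.map_smul''] at h2
    exact Submodule.smul_mono le_rfl le_top h2
  rwa [smul_eq_mul, Ideal.mul_top] at h1

end K780.ArtinRees
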