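import Groth.Agent.FSch.K179.CompSys

/-!
# The transition maps of `completionMod` in the frozen spelling

`canT 𝓘 𝔐 n` is the composite of the unit of `ι_n`, the comparison of direct images and the direct image of the
structure isomorphism of `𝔐`; `canT_eq : canT = ptr`.
-/

set_option autoImplicit false
universe u

open CategoryTheory CategoryTheory.Limits AlgebraicGeometry Opposite

namespace K780.CanTr

open FSch AlgebraicGeometry.Scheme.Modules
open Groth.Agent.Sga2lef.H96.ModSysRec Groth.Agent.Sga2lef.H96.ModSysPush Groth.Agent.Sga2lef.H96.Transp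

variable {X : Scheme.{u}} {𝓘 : X.IdealSheafData}

theorem canT_eq (𝔐 : ModSys (completionAlong X 𝓘)) (n : ℕ) :
    ((Scheme.Modules.pushforward (FSch.completionToX X 𝓘 (n + 1))).map
            ((Scheme.Modules.pullbackPushforwardAdjunction ((FSch.completionAlong X 𝓘).ι n)).unit.app (𝔐.F (n + 1))) ≫
          (Scheme.Modules.pushforwardComp ((FSch.completionAlong X 𝓘).ι n) (FSch.completionToX X 𝓘 (n + 1))).hom.app ((Scheme.Modules.pullback ((FSch.completionAlong X 𝓘).ι n)).obj (𝔐.F (n + 1))) ≫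
          (Scheme.Modules.pushforwardCongr (Scheme.IdealSheafData.inclusion_subschemeι (FSch.pow_succ_le X 𝓘 n))).hom.app ((Scheme.Modules.pullback ((FSch.completionAlong X 𝓘).ι n)).obj (𝔐.F (n + 1))) ≫
          (Scheme.Modules.pushforward (FSch.completionToX X 𝓘 n)).map (𝔐.e n).hom) = ptr 𝔐 n := by
  have h1 : ptr 𝔐 n = tr ((completionAlong X 𝓘).ι n) (completionToX X 𝓘 (n + 1))
      (completionToX X 𝓘 n) (ι_toX 𝓘 n) (𝟙 _ ≫ (𝔐.e n).hom) := by
    rw [Category.id_comp]
    exact ptr_eq 𝔐 n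
  rw [h1, tr_comp]
  have h2 : tr ((completionAlong X 𝓘).ι n) (completionToX X 𝓘 (n + 1))
      (completionToX X 𝓘 n) (ι_toX 𝓘 n) (𝟙 ((Scheme.Modules.pullback ((FSch.completionAlong X 𝓘).ι n)).obj (𝔐.F (n + 1)))) =
      (Scheme.Modules.pushforward (FSch.completionToX X 𝓘 (n + 1))).map
            ((Scheme.Modules.pullbackPushforwardAdjunction ((FSch.completionAlong X 𝓘).ι n)).unit.app (𝔐.F (n + 1))) ≫
          (Scheme.Modules.pushforwardComp ((FSch.completionAlong X 𝓘).ι n) (FSch.completionToX X 𝓘 (n + 1))).hom.app ((Scheme.Modules.pullback ((FSch.completionAlong X 𝓘).ι n)).obj (𝔐.F (n + 1))) ≫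
          (Scheme.Modules.pushforwardCongr (Scheme.IdealSheafData.inclusion_subschemeι (FSch.pow_succ_le X 𝓘 n))).hom.app ((Scheme.Modules.pullback ((FSch.completionAlong X 𝓘).ι n)).obj (𝔐.F (n + 1))) := by
    rw [tr, Adjunction.homEquiv_id]
    rfl
  rw [h2]
  exact ((Category.assoc _ _ _).trans (congrArg (fun t => _ ≫ t) (Category.assoc _ _ _))).symm

theorem completionMod_e_eq (F : X.Modules) (n : ℕ) : (completionMod 𝓘 F).e n =
    qq ((completionAlong X 𝓘).ι n) (completionToX X 𝓘 (n + 1)) (completionToX X 𝓘 n) (ι_toX 𝓘 n) F := by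
  change ee 𝓘 F n = _
  rw [ee_eq, e1_eq, e2_eq]
  rfl

variable (𝓘) in
/-- The canonical maps `F ⟶ (i_n)_* i_n^* F`. -/
noncomputable def canU (F : X.Modules) (n : ℕ) : F ⟶ pm (completionMod 𝓘 F) n :=
  (pullbackPushforwardAdjunction (completionToX X 𝓘 n)).unit.app F

theorem canU_eq_homEquiv (F : X.Modules) (n : ℕ) : canU 𝓘 F n =
    (pullbackPushforwardAdjunction (completionToX X 𝓘 n)).homEquiv _ _ (𝟙 _) := by
  rw [Adjunction.homEquiv_unit, CategoryTheory.Functor.map_id]
  exact (Category.comp_id _).symm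

theorem canU_ptr (F : X.Modules) (n : ℕ) : canU 𝓘 F (n + 1) ≫ ptr (completionMod 𝓘 F) n = canU 𝓘 F n := by
  rw [canU_eq_homEquiv, canU_eq_homEquiv, ptr_eq]
  refine (homEquiv_tr ((completionAlong X 𝓘).ι n) (completionToX X 𝓘 (n + 1))
      (completionToX X 𝓘 n) (ι_toX 𝓘 n) ((completionMod 𝓘 F).e n).hom (𝟙 _) (𝟙 _)).2 ?_
  rw [completionMod_e_eq]
  exact (congrArg (fun t => t ≫ (qq ((completionAlong X 𝓘).ι n) (completionToX X 𝓘 (n + 1))
    (completionToX X 𝓘 n) (ι_toX 𝓘 n) F).hom)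
      ((Scheme.Modules.pullback ((completionAlong X 𝓘).ι n)).map_id _)).trans
        ((Category.id_comp _).trans (Category.comp_id _).symm)

end K780.CanTr
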