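import Groth.Prelude.Def_RegImm
import Groth.Prelude.Def_Pi1
import Groth.Agent.Lef.K183.PowDepth
import Groth.Agent.Ega4dB.DepthExt2
import Groth.Agent.Ega4dB.RegQuot
import Groth.Agent.Divis.CartierStalk
import Groth.Agent.S2344
import Groth.Prelude.Def_ClSub2
import Groth.Agent.CohqB.QC2

/-!
# Depth of the infinitesimal neighbourhoods of a normal, regularly embedded subscheme

`two_le_depth_stalk`: at a point of `V(𝓘)` where the ambient scheme is not regular, the local ring of `V(𝓘^(n+1))` has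
depth at least two, if `𝓘` is locally generated by regular sequences and `V(𝓘)` is normal.
`bijective_quotMod`: restriction of sections of `O/𝓘^(n+1)`.
-/

set_option autoImplicit false
universe u

open CategoryTheory CategoryTheory.Limits AlgebraicGeometry Opposite

namespace K780.DepthY

open Groth.Agent Groth.Agent.Divis.CartierBasic Groth.Agent.Divis.CartierStalk

variable {X : Scheme.{u}} {𝓘 : X.IdealSheafData}

theorem exists_list [IsLocallyNoetherian X] (hreg : RegImm.IsRegularIdeal RegImm.Kind.regular 𝓘) {x : X}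
    (hx : x ∈ 𝓘.support) : ∃ rs : List (X.presheaf.stalk x), RingTheory.Sequence.IsRegular (X.presheaf.stalk x) rs ∧
      Ideal.ofList rs = stalkIdeal 𝓘 x := by
  obtain ⟨⟨W, hW⟩, hxW, rs, hrs, hI⟩ := hreg x hx
  have hrs' : RingTheory.Sequence.IsRegular Γ(X, W) rs := hrs
  let := X.presheaf.algebra_section_stalk (⟨x, hxW⟩ : W)
  have hloc : IsLocalization.AtPrime (X.presheaf.stalk x) (hW.primeIdealOf ⟨x, hxW⟩).asIdeal :=
    hW.isLocalization_stalk ⟨x, hxW⟩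
  have hNoeth : IsNoetherianRing Γ(X, W) := IsLocallyNoetherian.component_noetherian ⟨W, hW⟩
  have h1 : stalkIdeal 𝓘 x = Ideal.ofList (rs.map (algebraMap Γ(X, W) (X.presheaf.stalk x))) := by
    rw [stalkIdeal_eq 𝓘 ⟨W, hW⟩ hxW, hI, ← Ideal.map_ofList]
    rfl
  refine ⟨rs.map (algebraMap Γ(X, W) (X.presheaf.stalk x)), ?_, h1.symm⟩
  refine hrs'.toIsWeaklyRegular.isRegular_of_isLocalization_of_mem (X.presheaf.stalk x)
    (hW.primeIdealOf ⟨x, hxW⟩).asIdeal fun r hr => ?_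
  rw [← IsLocalization.AtPrime.to_map_mem_maximal_iff (X.presheaf.stalk x) (hW.primeIdealOf ⟨x, hxW⟩).asIdeal]
  have h2 : stalkIdeal 𝓘 x ≤ IsLocalRing.maximalIdeal (X.presheaf.stalk x) := by
    apply IsLocalRing.le_maximalIdeal
    rwa [← mem_support_iff_stalkIdeal_ne_top]
  apply h2
  rw [h1]
  exact Ideal.subset_span (List.mem_map_of_mem hr)

theorem stalkIdeal_pow (𝓘 : X.IdealSheafData) (n : ℕ) (x : X) : stalkIdeal (𝓘 ^ n) x = stalkIdeal 𝓘 x ^ n := by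
  obtain ⟨⟨U, hU⟩, hx⟩ := exists_affine x
  rw [stalkIdeal_eq _ ⟨U, hU⟩ hx, stalkIdeal_eq _ ⟨U, hU⟩ hx, ← Ideal.map_pow]
  rfl

theorem two_le_of_not_le_one {d : WithBot ℕ∞} (h : ¬ d ≤ 1) : 2 ≤ d := by
  induction d using WithBot.recBotCoe with
  | bot => exact absurd bot_le h
  | coe e =>
    have h1 : ¬ e ≤ 1 := fun h' => h (WithBot.coe_le_coe.2 h')
    have h2 : (1 : ℕ∞) + 1 ≤ e := Order.add_one_le_of_lt (not_le.1 h1)
    exact WithBot.coe_le_coe.2 (le_trans (le_of_eq (by norm_num)) h2)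

theorem two_le_depth_quot [IsLocallyNoetherian X] (hreg : RegImm.IsRegularIdeal RegImm.Kind.regular 𝓘)
    (hYn : Pi1.IsNormalScheme 𝓘.subscheme) {x : X} (hx : x ∈ 𝓘.support)
    (hnr : ¬ IsRegularLocalRing (X.presheaf.stalk x)) (n : ℕ) :
    (2 : ℕ∞) ≤ LocCoh.depth (X.presheaf.stalk x) (X.presheaf.stalk x ⧸ stalkIdeal (𝓘 ^ n) x) := by
  obtain ⟨d, rfl⟩ := exists_subscheme_apply_eq 𝓘 hx
  obtain ⟨rs, hrs, hI⟩ := exists_list hreg hx
  obtain ⟨hd1, hd2⟩ := hYn d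
  have hdom : IsDomain (X.presheaf.stalk (𝓘.subschemeι d) ⧸ stalkIdeal 𝓘 (𝓘.subschemeι d)) :=
    (stalkQuotEquiv 𝓘 d).toMulEquiv.isDomain _
  have hic : IsIntegrallyClosed (X.presheaf.stalk (𝓘.subschemeι d) ⧸ stalkIdeal 𝓘 (𝓘.subschemeι d)) :=
    IsIntegrallyClosed.of_equiv (stalkQuotEquiv 𝓘 d).symm
  rw [stalkIdeal_pow]
  rw [← hI] at hdom hic ⊢
  refine K183.PowDepth.two_le_depth_pow rs hrs hdom hic ?_ n
  have h2 := ringKrullDim_add_length_eq_ringKrullDim_of_isRegular rs hrs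
  rw [← h2]
  have hloc : IsLocalRing (X.presheaf.stalk (𝓘.subschemeι d) ⧸ Ideal.ofList rs) :=
    IsLocalRing.of_surjective' (Ideal.Quotient.mk _) Ideal.Quotient.mk_surjective
  have h3 : ¬ ringKrullDim (X.presheaf.stalk (𝓘.subschemeι d) ⧸ Ideal.ofList rs) ≤ 1 := by
    intro h
    apply hnr
    have h4 := Groth.Agent.S2344.isRegular_of_normal _ h
    exact Groth.Agent.Ega4dB.RegQuot.isRegularLocalRing_of_quotient_ofList rs hrs h4
  have h5 : (2 : WithBot ℕ∞) ≤ ringKrullDim (X.presheaf.stalk (𝓘.subschemeι d) ⧸ Ideal.ofList rs) := by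
    exact two_le_of_not_le_one h3
  have h8 : (2 : WithBot ℕ∞) + (rs.length : WithBot ℕ∞) ≤
      ringKrullDim (X.presheaf.stalk (𝓘.subschemeι d) ⧸ Ideal.ofList rs) + (rs.length : WithBot ℕ∞) := by
    gcongr
  refine le_trans (le_of_eq ?_) h8
  push_cast
  rw [add_comm]

theorem two_le_depth_stalk [IsLocallyNoetherian X] (hreg : RegImm.IsRegularIdeal RegImm.Kind.regular 𝓘)
    (hYn : Pi1.IsNormalScheme 𝓘.subscheme) (n : ℕ) (z : (𝓘 ^ (n + 1)).subscheme)
    (hnr : ¬ IsRegularLocalRing (X.presheaf.stalk ((𝓘 ^ (n + 1)).subschemeι z))) :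
    (2 : ℕ∞) ≤ LocCoh.depth ((𝓘 ^ (n + 1)).subscheme.presheaf.stalk z)
      ((𝓘 ^ (n + 1)).subscheme.presheaf.stalk z) := by
  have hx : (𝓘 ^ (n + 1)).subschemeι z ∈ 𝓘.support := by
    have := subschemeι_mem_support (𝓘 ^ (n + 1)) z
    rwa [Scheme.IdealSheafData.support_pow_succ] at this
  have h1 := two_le_depth_quot hreg hYn hx hnr (n + 1)
  refine h1.trans_eq ?_
  refine Groth.Agent.Ega4dB.FiberDepth.depth_eq_of_semilinear
    ((𝓘 ^ (n + 1)).subschemeι.stalkMap z).hom (stalkMap_subschemeι_surjective _ z)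
    (stalkQuotEquiv (𝓘 ^ (n + 1)) z).toAddEquiv fun r m => ?_
  obtain ⟨m, rfl⟩ := Ideal.Quotient.mk_surjective m
  change stalkQuotEquiv (𝓘 ^ (n + 1)) z (Ideal.Quotient.mk _ (r * m)) = _ * stalkQuotEquiv _ z (Ideal.Quotient.mk _ m)
  rw [stalkQuotEquiv_mk, stalkQuotEquiv_mk]
  exact map_mul _ _ _

/-- Restriction of sections of `O/𝓘^(n+1)` from `W` to `U ≤ W`. -/
theorem bijective_quotMod [IsLocallyNoetherian X] (hreg : RegImm.IsRegularIdeal RegImm.Kind.regular 𝓘)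
    (hYn : Pi1.IsNormalScheme 𝓘.subscheme) {U W : X.Opens} (hUW : U ≤ W)
    (hU : ∀ x : X, x ∈ W → x ∈ (𝓘.support : Set X) → IsRegularLocalRing (X.presheaf.stalk x) → x ∈ U) (n : ℕ) :
    Function.Bijective (CohqB.QC2.res (ClSub.quotMod (𝓘 ^ (n + 1))) hUW) := by
  have hN : IsLocallyNoetherian (𝓘 ^ (n + 1)).subscheme :=
    LocallyOfFiniteType.isLocallyNoetherian (𝓘 ^ (n + 1)).subschemeι
  refine Groth.Agent.Ega4dB.DepthExt2.res_bijective_of_le
    (U := (𝓘 ^ (n + 1)).subschemeι ⁻¹ᵁ U) (W := (𝓘 ^ (n + 1)).subschemeι ⁻¹ᵁ W)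
    (Scheme.Hom.preimage_mono _ hUW) ?_
  intro z hz hzU
  refine two_le_depth_stalk hreg hYn n z fun h => hzU (hU _ hz ?_ h)
  have := subschemeι_mem_support (𝓘 ^ (n + 1)) z
  rwa [Scheme.IdealSheafData.support_pow_succ] at this

end K780.DepthY
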