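import Groth.Agent.Lef.K780.SectBij

/-!
# Modules whose sections are the compatible families of sections of the quotients

`S.Full V`: sections of `M` over `V` are the same as compatible families of sections of the `Q n`.
-/

set_option autoImplicit false
universe u

open CategoryTheory CategoryTheory.Limits AlgebraicGeometry Opposite

namespace K780.FullSys

open AlgebraicGeometry.Scheme.Modules
open Groth.Agent Groth.Agent.CohqB.QC2 Groth.Agent.FormalB.KQuot
open K780.QuotSys K780.LocalRefl K780.SectBij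

variable {X : Scheme.{u}} {𝓘 : X.IdealSheafData} {M N : X.Modules}

/-- Sections over `V` are compatible families. -/
structure Full (S : QSys 𝓘 M) (V : X.Opens) : Prop where
  inj : ∀ σ : Γ(M, V), (∀ n, (S.u n).app V σ = 0) → σ = 0
  surj : ∀ y : (∀ n, Γ(S.Q n, V)), S.IsFam V y → ∃ σ : Γ(M, V), ∀ n, (S.u n).app V σ = y n

theorem Full.of_iso {S : QSys 𝓘 M} {V : X.Opens} (h : Full S V) (T : QSys 𝓘 N) (e : M ≅ N) : Full T V := by
  have h1 : ∀ (n : ℕ) (W : X.Opens) (y : Γ(T.Q n, W)),
      (S.map T e.hom n).app W ((T.map S e.inv n).app W y) = y := by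
    intro n W y
    have h2 := congr(($(T.map_comp_app S T e.inv e.hom n)).app W y)
    rw [e.inv_hom_id, QSys.map_id_app] at h2
    exact h2
  have h3 : ∀ (W : X.Opens) (y : Γ(N, W)), e.hom.app W (e.inv.app W y) = y := by
    intro W y
    have h2 := congr(($(e.inv_hom_id)).app W y)
    exact h2
  constructor
  · intro σ hσ
    have h2 := h.inj (e.inv.app V σ) (fun n => by
      rw [← T.map_u S, hσ, map_zero])
    rw [← h3 V σ, h2, map_zero]
  · intro y hy
    obtain ⟨σ, hσ⟩ := h.surj _ (hy.map S e.inv)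
    refine ⟨e.hom.app V σ, fun n => ?_⟩
    rw [← S.map_u T, hσ, h1]

theorem full_restr {S : QSys 𝓘 M} {Y : Scheme.{u}} (j : Y ⟶ X) [IsOpenImmersion j] {V : Y.Opens}
    (h : Full S (j ''ᵁ V)) : Full (S.restr j) V := by
  constructor
  · intro σ hσ
    exact h.inj σ hσ
  · intro y hy
    exact h.surj y hy

theorem Full.congr {S : QSys 𝓘 M} {V V' : X.Opens} (h : Full S V) (e : V = V') : Full S V' := by
  subst e
  exact h

theorem full_of_bij {S : QSys 𝓘 M} {V U : X.Opens} {h : U ≤ V} (hb : S.Bij V U h) (hV : Full S V)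
    (hM : Function.Bijective (res M h)) : Full S U := by
  constructor
  · intro σ hσ
    obtain ⟨τ, rfl⟩ := hM.2 σ
    have h1 : ∀ n, (S.u n).app V τ = 0 := by
      refine hb.inj _ (fun n => S.t_u n V τ) fun n => ?_
      rw [← app_res, hσ n]
    rw [hV.inj τ h1, map_zero]
  · intro z hz
    obtain ⟨y, hy, hyz⟩ := hb.surj z hz
    obtain ⟨σ, hσ⟩ := hV.surj y hy
    refine ⟨res M h σ, fun n => ?_⟩
    rw [app_res, hσ, hyz]

end K780.FullSys
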