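import Groth.Agent.Lef.K780.FullSys
import Groth.Agent.Lef.K183.LimDual

/-!
# Homomorphisms into the completion of the structure sheaf and sections of the dual

`homToFormalBijective_of_full`: if sections of the dual `D'` of `D` are the compatible families of sections of the
`D' / 𝓙^(n+1) D'`, then `Hom(D, O) → lim Hom(D, O/𝓙^(n+1))` is bijective.
-/

set_option autoImplicit false
universe u

open CategoryTheory CategoryTheory.Limits AlgebraicGeometry Opposite MonoidalCategory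

namespace K780.HomFull

open scoped Groth.Agent.Dcoh.MonCat
open Groth.Agent Groth.Agent.CohqB.QC2 Groth.Agent.FormalB.KQuot
open K780.QuotSys K780.SectBij K780.FullSys K183.LimDual
open Groth.Agent.Dcoh.Restrict (unitEquiv unitEquiv_comp)

variable {X : Scheme.{u}} (𝓙 : X.IdealSheafData) (D D' : X.Modules) [ExactPairing D D']

/-- The system `O/𝓙^(n+1) ⊗ D'`. -/
noncomputable def tensSys : QSys 𝓙 D' where
  Q n := ClSub.quotMod (𝓙 ^ (n + 1)) ⊗ D'
  u n := tq (𝓙 ^ (n + 1)) D'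
  t n := Lef.quotMap (Lef.pow_succ_le 𝓙 n) ▷ D'
  ut n := tq_quotMap (Lef.pow_succ_le 𝓙 n) D'
  kq n := by
    let _ : ExactPairing D' D := BraidedCategory.exactPairing_swap D D'
    exact isKQuot_tq (𝓙 ^ (n + 1)) D' D

/-- `Hom(D, N) ≃ Hom(O, N ⊗ D')`. -/
noncomputable def hE (N : X.Modules) : (D ⟶ N) ≃ (𝟙_ X.Modules ⟶ N ⊗ D') :=
  (Iso.homCongr (λ_ D).symm (Iso.refl N)).trans (tensorRightHomEquiv (𝟙_ X.Modules) D D' N)

theorem hE_apply (N : X.Modules) (φ : D ⟶ N) :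
    hE D D' N φ = tensorRightHomEquiv (𝟙_ X.Modules) D D' N ((λ_ D).hom ≫ φ) := by
  simp [hE]

theorem hE_comp {N N' : X.Modules} (φ : D ⟶ N) (p : N ⟶ N') : hE D D' N' (φ ≫ p) = hE D D' N φ ≫ p ▷ D' := by
  rw [hE_apply, hE_apply, ← Category.assoc, tensorRightHomEquiv_naturality]

/-- `Hom(D, O) ≃ Hom(O, D')`. -/
noncomputable def hO : (D ⟶ 𝟙_ X.Modules) ≃ (𝟙_ X.Modules ⟶ D') :=
  (hE D D' (𝟙_ X.Modules)).trans (Iso.homCongr (Iso.refl _) (λ_ D'))

theorem hO_apply (φ : D ⟶ 𝟙_ X.Modules) : hO D D' φ = hE D D' _ φ ≫ (λ_ D').hom := by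
  simp [hO]

theorem hO_tq (K : X.IdealSheafData) (φ : D ⟶ 𝟙_ X.Modules) :
    hO D D' φ ≫ tq K D' = hE D D' _ (φ ≫ um K) := by
  rw [hO_apply, tq, Category.assoc, Iso.hom_inv_id_assoc, hE_comp]

theorem homToFormalBijective_of_full (h : Full (tensSys 𝓙 D D') ⊤) : Lef.HomToFormalBijective 𝓙 D := by
  constructor
  · intro φ ψ hφψ
    apply (hO D D').injective
    apply (unitEquiv D').injective
    rw [← sub_eq_zero, ← map_sub]
    apply h.inj
    intro n
    have h1 : hO D D' φ ≫ tq (𝓙 ^ (n + 1)) D' = hO D D' ψ ≫ tq (𝓙 ^ (n + 1)) D' := by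
      rw [hO_tq, hO_tq]
      exact congrArg _ (hφψ n)
    have h2 := congrArg (unitEquiv (ClSub.quotMod (𝓙 ^ (n + 1)) ⊗ D')) h1
    rw [map_sub, map_sub, sub_eq_zero]
    exact h2
  · intro y hy
    obtain ⟨σ, hσ⟩ := h.surj (fun n => unitEquiv _ (hE D D' _ (y n))) (fun n => by
      have h1 : hE D D' _ (y (n + 1)) ≫ Lef.quotMap (Lef.pow_succ_le 𝓙 n) ▷ D' = hE D D' _ (y n) := by
        rw [← hE_comp, hy n]
      exact congrArg (unitEquiv _) h1)
    refine ⟨(hO D D').symm ((unitEquiv D').symm σ), fun n => ?_⟩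
    apply (hE D D' _).injective
    have h2 := hO_tq D D' (𝓙 ^ (n + 1)) ((hO D D').symm ((unitEquiv D').symm σ))
    rw [Equiv.apply_symm_apply] at h2
    refine h2.symm.trans ?_
    apply (unitEquiv _).injective
    refine Eq.trans ?_ (hσ n)
    change (tq (𝓙 ^ (n + 1)) D').app ⊤ (unitEquiv D' ((unitEquiv D').symm σ)) = _
    rw [AddEquiv.apply_symm_apply]
    rfl

end K780.HomFull
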