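import Groth.Agent.Lef.K780.QuotSys
import Groth.Agent.Lef.K780.ArtinRees
import Groth.Agent.CohqA.PullbackAffine
import Groth.Agent.QGor.K966.DualPres
import Groth.Agent.FormalB.TrKQuot
import Groth.Agent.Sga67.CohBasic

/-!
# Families of sections of a reflexive module on an affine Noetherian scheme

`bij_of_reflexive`: if restriction from `X` to `U` is bijective on sections of `O/𝓘^(n+1)` for all `n`, then it is
bijective on compatible families of sections of `M/𝓘^(n+1) M`, `M` coherent with reflexive global sections.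
-/

set_option autoImplicit false
universe u

open CategoryTheory CategoryTheory.Limits AlgebraicGeometry Opposite

namespace K780.LocalRefl

open AlgebraicGeometry.Scheme.Modules
open Groth.Agent Groth.Agent.CohqB.QC2 Groth.Agent.FormalB Groth.Agent.FormalB.KQuot
open K780.QuotSys K780.ArtinRees

variable {X : Scheme.{u}} {𝓘 : X.IdealSheafData}

/-- The map on sections over `W` as a linear map. -/
noncomputable def appL {M N : X.Modules} (φ : M ⟶ N) (W : X.Opens) : Γ(M, W) →ₗ[Γ(X, W)] Γ(N, W) where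
  toFun := φ.app W
  map_add' := map_add _
  map_smul' a m := Scheme.Modules.Hom.app_smul φ a m

theorem appL_apply {M N : X.Modules} (φ : M ⟶ N) (W : X.Opens) (m : Γ(M, W)) : appL φ W m = φ.app W m := rfl

theorem mem_of_app_eq_zero {M Q : X.Modules} {p : M ⟶ Q} {n : ℕ} (hp : IsKQuot (𝓘 ^ (n + 1)) p)
    (hM : Coh.IsQCoh M) {W : X.Opens} (hW : IsAffineOpen W) {s : Γ(M, W)} :
    p.app W s = 0 ↔ s ∈ (𝓘.ideal ⟨W, hW⟩) ^ (n + 1) • (⊤ : Submodule Γ(X, W) Γ(M, W)) := by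
  have h1 := TrKQuot.IsKQuot.app_eq_zero_iff hp hM ⟨W, hW⟩ s
  exact h1

/-- Joint injectivity on global sections propagates to basic opens. -/
theorem eq_zero_basicOpen {M N : X.Modules} (hM : Coh.IsQCoh M) (hN : Coh.IsQCoh N) [IsAffine X] {ι : Type*}
    [Finite ι] (φ : ι → (M ⟶ N))
    (hφ : ∀ x : Γ(M, ⊤), (∀ i, (φ i).app ⊤ x = 0) → x = 0) (f : Γ(X, ⊤)) (x : Γ(M, X.basicOpen f))
    (hx : ∀ i, (φ i).app (X.basicOpen f) x = 0) : x = 0 := by
  have hlM := (isQuasicoherent_iff_loc M).1 hM ⊤ (isAffineOpen_top X)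
  have hlN := (isQuasicoherent_iff_loc N).1 hN ⊤ (isAffineOpen_top X)
  obtain ⟨n, t, ht⟩ := hlM.exists_lift f x
  have h1 : ∀ i, ∃ k : ℕ, f ^ k • (φ i).app ⊤ t = 0 := by
    intro i
    apply hlN.eq_zero f
    rw [← app_res, ht, Scheme.Modules.Hom.app_smul, hx, smul_zero]
  choose k hk using h1
  classical
  cases nonempty_fintype ι
  have h2 : (f ^ (∑ i, k i)) • t = 0 := by
    apply hφ
    intro i
    rw [Scheme.Modules.Hom.app_smul]
    have h3 : ∑ j, k j = (∑ j ∈ Finset.univ.erase i, k j) + k i := by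
      rw [Finset.sum_erase_add _ _ (Finset.mem_univ i)]
    rw [h3, pow_add, mul_smul, hk, smul_zero]
  have h3 : res M (X.basicOpen_le f) (f ^ (∑ i, k i) • t) = 0 := by rw [h2, map_zero]
  rw [res_smul, ht, smul_smul, map_pow, ← pow_add] at h3
  have h4 : IsUnit ((resR (X.basicOpen_le f) f) ^ (∑ i, k i + n)) := by
    apply IsUnit.pow
    exact RingedSpace.isUnit_res_basicOpen _ f
  exact (h4.smul_eq_zero).1 h3

theorem eq_zero_of_jointly [IsAffine X] [IsLocallyNoetherian X] {M : X.Modules} (hM : Coh.IsQCoh M) {ι : Type*}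
    [Finite ι] (φ : ι → (M ⟶ Coh.structureModule X))
    (hφ : ∀ x : Γ(M, ⊤), (∀ i, (φ i).app ⊤ x = 0) → x = 0)
    (S : QSys 𝓘 M) (T : QSys 𝓘 (Coh.structureModule X)) {W : X.Opens} (y : ∀ n, Γ(S.Q n, W)) (hy : S.IsFam W y)
    (h : ∀ i n, (S.map T (φ i) n).app W (y n) = 0) (n : ℕ) : y n = 0 := by
  refine smul_eq_zero_of_local (M := S.Q n) (U := W) (y n) ?_
  intro x hx
  obtain ⟨f, hf, hxf⟩ := (isAffineOpen_top X).exists_basicOpen_le (V := W) ⟨x, hx⟩ trivial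
  refine ⟨X.basicOpen f, hf, hxf, ?_⟩
  have hB : IsAffineOpen (X.basicOpen f) := (isAffineOpen_top X).basicOpen f
  have hNoeth : IsNoetherianRing Γ(X, X.basicOpen f) := IsLocallyNoetherian.component_noetherian ⟨_, hB⟩
  choose m hm using fun k => TrKQuot.IsKQuot.app_surjective (S.kq k) hM hB (res (S.Q k) hf (y k))
  let α : Γ(M, X.basicOpen f) →ₗ[Γ(X, X.basicOpen f)] (ι → Γ(X, X.basicOpen f)) :=
    LinearMap.pi fun i => appL (φ i) (X.basicOpen f)
  have hα : Function.Injective α := by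
    rw [injective_iff_map_eq_zero]
    intro z hz
    refine eq_zero_basicOpen hM (Groth.Agent.Ega2.QCohLocal.isQCoh_structureModule X) φ hφ f z fun i => ?_
    exact congrFun hz i
  have hfam := hy.res hf
  have h1 : ∀ k, m (k + 1) - m k ∈ (𝓘.ideal ⟨_, hB⟩) ^ (k + 1) •
      (⊤ : Submodule Γ(X, X.basicOpen f) Γ(M, X.basicOpen f)) := by
    intro k
    rw [← mem_of_app_eq_zero (S.kq k) hM hB, map_sub, hm k, ← S.t_u, hm (k + 1), sub_eq_zero]
    exact hfam k
  have h2 : ∀ k, α (m k) ∈ (𝓘.ideal ⟨_, hB⟩) ^ (k + 1) •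
      (⊤ : Submodule Γ(X, X.basicOpen f) (ι → Γ(X, X.basicOpen f))) := by
    intro k
    apply mem_smul_top_pi
    intro i
    have h3 : (T.u k).app (X.basicOpen f) ((φ i).app (X.basicOpen f) (m k)) = 0 := by
      rw [← S.map_u T, hm k, app_res, h i k, map_zero]
    rw [mem_of_app_eq_zero (T.kq k) (Groth.Agent.Ega2.QCohLocal.isQCoh_structureModule X) hB] at h3
    have h4 : (φ i).app (X.basicOpen f) (m k) ∈
      (𝓘.ideal ⟨_, hB⟩) ^ (k + 1) • (⊤ : Submodule Γ(X, X.basicOpen f) Γ(X, X.basicOpen f)) := h3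
    rw [smul_eq_mul, Ideal.mul_top] at h4
    exact h4
  rw [← hm n, mem_of_app_eq_zero (S.kq n) hM hB]
  exact mem_of_family _ α hα m h1 h2 n

theorem sum_map_comp {M N P : X.Modules} {ι : Type*} [Fintype ι] (S : QSys 𝓘 M) (T : QSys 𝓘 N) (R : QSys 𝓘 P)
    (φ : ι → (M ⟶ N)) (ψ : ι → (N ⟶ P)) (h : ∑ i, φ i ≫ ψ i = 0) (n : ℕ) :
    ∑ i, S.map T (φ i) n ≫ T.map R (ψ i) n = 0 := by
  have := S.epi_u n
  rw [← cancel_epi (S.u n), Preadditive.comp_sum, comp_zero]
  have h1 : ∀ i, S.u n ≫ S.map T (φ i) n ≫ T.map R (ψ i) n = (φ i ≫ ψ i) ≫ R.u n := by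
    intro i
    rw [S.u_map_assoc, T.u_map, Category.assoc]
  rw [Finset.sum_congr rfl (fun i _ => h1 i), ← Preadditive.sum_comp, h, zero_comp]

theorem app_sum {M N : X.Modules} {ι : Type*} (s : Finset ι) (φ : ι → (M ⟶ N)) (W : X.Opens) (x : Γ(M, W)) :
    (∑ i ∈ s, φ i).app W x = ∑ i ∈ s, (φ i).app W x := by
  classical
  induction s using Finset.induction_on with
  | empty => rfl
  | insert a s ha ih =>
    rw [Finset.sum_insert ha, Finset.sum_insert ha, ← ih]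
    rfl

theorem bij_of_reflexive [IsAffine X] [IsLocallyNoetherian X] {M : X.Modules} (hM : Coh.IsCoh M)
    (hrefl : Module.IsReflexive Γ(X, ⊤) Γ(M, ⊤)) (S : QSys 𝓘 M) (T : QSys 𝓘 (Coh.structureModule X)) (U : X.Opens)
    (hO : ∀ n, Function.Bijective (res (T.Q n) (le_top : U ≤ ⊤))) : S.Bij ⊤ U le_top := by
  have hT : IsAffineOpen (⊤ : X.Opens) := isAffineOpen_top X
  have hNoeth : IsNoetherianRing Γ(X, ⊤) := IsLocallyNoetherian.component_noetherian ⟨_, hT⟩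
  have hfin : Module.Finite Γ(X, ⊤) Γ(M, ⊤) := Sga67.CohBasic.finite_sections hM ⟨_, hT⟩
  have hO' := Groth.Agent.Ega2.QCohLocal.isQCoh_structureModule X
  have hMq : M.IsQuasicoherent := hM.1
  have hOq : (Coh.structureModule X).IsQuasicoherent := hO'
  obtain ⟨r, m, g, h, hg, hgh⟩ := K966.DualPres.exists_presentation_of_isReflexive (A := Γ(X, ⊤)) Γ(M, ⊤)
  have hφ' : ∀ i : Fin r, ∃ φ : M ⟶ Coh.structureModule X, ∀ x : Γ(M, ⊤), φ.app ⊤ x = g x i := by
    intro i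
    obtain ⟨φ, hφ, -⟩ := CohqA.PullbackAffine.existsUnique_hom M (Coh.structureModule X)
      ((LinearMap.proj i : (Fin r → Γ(X, ⊤)) →ₗ[Γ(X, ⊤)] Γ(X, ⊤)) ∘ₗ g)
    exact ⟨φ, hφ⟩
  choose φ hφ using hφ'
  have hμ' : ∀ (j : Fin (m + 1)) (i : Fin r), ∃ μ : Coh.structureModule X ⟶ Coh.structureModule X,
      ∀ a : Γ(X, ⊤), μ.app ⊤ a = (h (Pi.single i a) j : Γ(X, ⊤)) := by
    intro j i
    obtain ⟨φ, hφ, -⟩ := CohqA.PullbackAffine.existsUnique_hom (Coh.structureModule X) (Coh.structureModule X)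
      ((LinearMap.proj j : (Fin (m + 1) → Γ(X, ⊤)) →ₗ[Γ(X, ⊤)] Γ(X, ⊤)) ∘ₗ h ∘ₗ
        (LinearMap.single Γ(X, ⊤) (fun _ : Fin r => Γ(X, ⊤)) i))
    exact ⟨φ, hφ⟩
  choose μ hμ using hμ'
  have hsum : ∀ (v : Fin r → Γ(X, ⊤)) (j : Fin (m + 1)), ∑ i, h (Pi.single i (v i)) j = h v j := by
    intro v j
    conv_rhs => rw [← Finset.univ_sum_single v, map_sum, Finset.sum_apply]
  have hrel : ∀ j, ∑ i, φ i ≫ μ j i = 0 := by
    intro j
    obtain ⟨ψ, hψ, hu⟩ := CohqA.PullbackAffine.existsUnique_hom M (Coh.structureModule X) 0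
    rw [hu (∑ i, φ i ≫ μ j i) ?_, hu 0 ?_]
    · intro x; rfl
    · intro x
      rw [app_sum]
      have h1 : ∀ i, (φ i ≫ μ j i).app ⊤ x = (h (Pi.single i (g x i)) j : Γ(X, ⊤)) := by
        intro i
        change (μ j i).app ⊤ ((φ i).app ⊤ x) = _
        rw [hφ]
        exact hμ j i (g x i)
      rw [Finset.sum_congr rfl (fun i _ => h1 i)]
      refine (hsum (g x) j).trans ?_
      have h2 : h (g x) = 0 := (hgh (g x)).2 ⟨x, rfl⟩
      rw [h2]
      rfl
  have hinj : ∀ x : Γ(M, ⊤), (∀ i, (φ i).app ⊤ x = 0) → x = 0 := by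
    intro x hx
    apply hg
    rw [map_zero]
    funext i
    rw [← hφ, hx]
    rfl
  refine ⟨fun y hy hy0 n => ?_, fun z hz => ?_⟩
  · refine eq_zero_of_jointly hM.1 φ hinj S T y hy (fun i k => ?_) n
    apply (hO k).1
    rw [← app_res, hy0, map_zero, map_zero]
  · choose w hw using fun (i : Fin r) (n : ℕ) => (hO n).2 ((S.map T (φ i) n).app U (z n))
    have hwF : ∀ i, T.IsFam ⊤ (w i) := by
      intro i n
      apply (hO n).1
      rw [← app_res, hw, hw]
      exact (hz.map T (φ i)) n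
    choose c hc using fun (i : Fin r) (n : ℕ) => TrKQuot.IsKQuot.app_surjective (T.kq n) hO' hT (w i n)
    have hcd : ∀ i n, (c i (n + 1) : Γ(X, ⊤)) - (c i n : Γ(X, ⊤)) ∈ (𝓘.ideal ⟨_, hT⟩) ^ (n + 1) := by
      intro i n
      have h1 : (T.u n).app ⊤ (c i (n + 1) - c i n) = 0 := by
        rw [map_sub, hc, ← T.t_u, hc, hwF i n, sub_self]
      rw [mem_of_app_eq_zero (T.kq n) hO' hT] at h1
      have h4 : (c i (n + 1) : Γ(X, ⊤)) - (c i n : Γ(X, ⊤)) ∈
        (𝓘.ideal ⟨_, hT⟩) ^ (n + 1) • (⊤ : Submodule Γ(X, ⊤) Γ(X, ⊤)) := h1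
      rwa [smul_eq_mul, Ideal.mul_top] at h4
    have hkill : ∀ (n : ℕ) (j : Fin (m + 1)),
        (h (fun i => (c i n : Γ(X, ⊤))) j : Γ(X, ⊤)) ∈ (𝓘.ideal ⟨_, hT⟩) ^ (n + 1) := by
      intro n j
      have h1 : (T.u n).app ⊤ (h (fun i => (c i n : Γ(X, ⊤))) j : Γ(X, ⊤)) = 0 := by
        apply (hO n).1
        rw [map_zero, ← hsum]
        have h2 : (T.u n).app ⊤ (∑ i, h (Pi.single i (c i n : Γ(X, ⊤))) j : Γ(X, ⊤)) =
            ∑ i, (T.map T (μ j i) n).app ⊤ (w i n) := by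
          refine (map_sum ((T.u n).app ⊤).hom _ _).trans ?_
          refine Finset.sum_congr rfl fun i _ => ?_
          rw [← hc, T.map_u]
          refine congrArg ((T.u n).app ⊤) ?_
          exact (hμ j i _).symm
        rw [h2, map_sum]
        have h3 : ∀ i, res (T.Q n) (le_top : U ≤ ⊤) ((T.map T (μ j i) n).app ⊤ (w i n)) =
            (S.map T (φ i) n ≫ T.map T (μ j i) n).app U (z n) := by
          intro i
          rw [← app_res, hw]
          rfl
        rw [Finset.sum_congr rfl (fun i _ => h3 i), ← app_sum, sum_map_comp S T T φ (μ j) (hrel j) n]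
        rfl
      rw [mem_of_app_eq_zero (T.kq n) hO' hT] at h1
      have h4 : (h (fun i => (c i n : Γ(X, ⊤))) j : Γ(X, ⊤)) ∈
        (𝓘.ideal ⟨_, hT⟩) ^ (n + 1) • (⊤ : Submodule Γ(X, ⊤) Γ(X, ⊤)) := h1
      rwa [smul_eq_mul, Ideal.mul_top] at h4
    obtain ⟨e, he1, he2⟩ := exists_family (𝓘.ideal ⟨_, hT⟩) g hg h hgh (fun n i => (c i n : Γ(X, ⊤)))
      (fun n => mem_smul_top_pi _ _ fun i => hcd i n) (fun n => mem_smul_top_pi _ _ fun j => hkill n j)
    have hyF : S.IsFam ⊤ (fun n => (S.u n).app ⊤ (e n)) := by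
      intro n
      rw [S.t_u]
      rw [← sub_eq_zero, ← map_sub, mem_of_app_eq_zero (S.kq n) hM.1 hT]
      exact he1 n
    have hyl : ∀ i n, (S.map T (φ i) n).app ⊤ ((S.u n).app ⊤ (e n)) = w i n := by
      intro i n
      rw [S.map_u, ← hc i n, ← sub_eq_zero, ← map_sub, mem_of_app_eq_zero (T.kq n) hO' hT]
      have h5 : Sub.sub (α := Γ(X, ⊤)) (g (e n) i) (c i n) ∈
          (𝓘.ideal ⟨_, hT⟩) ^ (n + 1) • (⊤ : Submodule Γ(X, ⊤) Γ(X, ⊤)) := by
        rw [smul_eq_mul, Ideal.mul_top]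
        exact apply_mem_of_mem_smul_top _ _ (he2 n) i
      rw [← hφ] at h5
      exact h5
    refine ⟨_, hyF, fun n => ?_⟩
    have h6 := eq_zero_of_jointly hM.1 φ hinj S T
      (fun n => res (S.Q n) (le_top : U ≤ ⊤) ((S.u n).app ⊤ (e n)) - z n) (fun n => by
        have := (hyF.res (le_top : U ≤ ⊤)) n
        rw [map_sub, hz n]
        exact congrArg (· - z n) this) (fun i n => by
        rw [map_sub, app_res, hyl, hw, sub_self]) n
    exact sub_eq_zero.1 h6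

end K780.LocalRefl
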