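import Groth.Agent.Lef.K780.AmpleY
import Groth.Agent.Lef.K183.SecAmple
import Groth.Agent.Cyc.K91.FibFin
import Groth.Agent.CoPerf.K722.GenPts
import Groth.Agent.RefCh.K939.GenHypCut
import Groth.Agent.Divis.CartierDim
import Groth.Agent.Fdesc.GenTop

/-!
# Neighbourhoods of the regular part of an ample divisor are big

`two_le_of_nhd`: on a proper normal variety of dimension at least three, with `Y` an ample divisor containing no
component of the non-regular locus, an open containing the regular points of `X` on `Y` contains all points of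
codimension at most one.
-/

set_option autoImplicit false
universe u

open CategoryTheory CategoryTheory.Limits AlgebraicGeometry Opposite TopologicalSpace

namespace K780.OpenCodim

open Groth.Agent Groth.Agent.Divis.CartierBasic Groth.Agent.Fdesc.LocGen

variable {X : Scheme.{u}} {K : Type u} [Field K]

theorem exists_stalkIdeal_span {L : X.Modules} (hL : PicF.IsInvertible L) (s : Coh.structureModule X ⟶ L) (x : X) :
    ∃ g, stalkIdeal (PicF2.zeroScheme L s) x = Ideal.span {g} := by
  obtain ⟨V, -, hxV, e, c, -, -, hc⟩ := K939.GenHypCut.exists_local_coord s hL ⊤ x trivial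
  exact ⟨X.presheaf.germ V.1 x hxV c, by
    rw [stalkIdeal_eq _ V hxV, hc, Ideal.map_span, Set.image_singleton]⟩

/-- A closed point or a point of codimension one of its closure on the ample divisor. -/
theorem exists_spec (f : X ⟶ Spec (CommRingCat.of K)) [IsProper f] [IsIntegral X] {L : X.Modules}
    (hL : CohB1.IsAmple L) (s : Coh.structureModule X ⟶ L) (x : X) (hx : ¬ IsClosed ({x} : Set X)) :
    ∃ z, x ⤳ z ∧ z ∈ (PicF2.zeroScheme L s).support ∧
      ringKrullDim (X.presheaf.stalk z) ≤ ringKrullDim (X.presheaf.stalk x) + 1 := by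
  have hex : ∃ y, x ⤳ y ∧ y ∈ (PicF2.zeroScheme L s).support := by
    by_contra hcon
    push Not at hcon
    apply hx
    refine K183.SecAmple.isClosed_of_affine f (Groth.Agent.Pi1C.LefFinal.isAffineOpen_genLocus f hL s) x
      fun y hy => ?_
    by_contra hyn
    have h1 : y ∈ ((PicF2.zeroScheme L s).support : Set X) := by
      rw [Groth.Agent.Pi1C.LefFinal.support_eq hL.1 s]
      exact hyn
    exact hcon y hy h1
  obtain ⟨y, hxy, hy⟩ := hex
  obtain ⟨Z, i, _, _, hgen, hrange⟩ := CycA.ClosurePt.exists_closure_subscheme x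
  obtain ⟨y', rfl⟩ : y ∈ Set.range i := by
    rw [hrange]
    exact specializes_iff_mem_closure.1 hxy
  have hNX : IsLocallyNoetherian X := LocallyOfFiniteType.isLocallyNoetherian f
  have hNZ : IsLocallyNoetherian Z := LocallyOfFiniteType.isLocallyNoetherian i
  have hcZ : CompactSpace Z := by
    have : QuasiCompact (i ≫ f) := inferInstance
    exact (quasiCompact_iff_compactSpace (f := i ≫ f)).1 this
  have hNZ' : IsNoetherian Z := {}
  have hNS : NoetherianSpace Z := inferInstance
  have hcl : IsClosed ((((PicF2.zeroScheme L s).comap i).support : Set Z)) :=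
    ((PicF2.zeroScheme L s).comap i).support.isClosed
  have hy' : y' ∈ (((PicF2.zeroScheme L s).comap i).support : Set Z) := by
    rw [Scheme.IdealSheafData.support_comap]
    exact hy
  obtain ⟨ξ, hξ, -, hmax⟩ := K722.GenPts.exists_maximal
    (((PicF2.zeroScheme L s).comap i).support : Set Z) hcl y' hy'
  have hξ' : i ξ ∈ (PicF2.zeroScheme L s).support := by
    rw [Scheme.IdealSheafData.support_comap] at hξ
    exact hξ
  obtain ⟨g, hg⟩ := exists_stalkIdeal_span hL.1 s (i ξ)
  have hle : ringKrullDim (Z.presheaf.stalk ξ) ≤ 1 := by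
    refine Divis.CartierDim.ringKrullDim_stalk_le_one ((PicF2.zeroScheme L s).comap i) ξ hξ hmax
      ((i.stalkMap ξ).hom g) ?_
    rw [Divis.CartierStalk.stalkIdeal_comap, hg, Ideal.map_span, Set.image_singleton]
  refine ⟨i ξ, ?_, hξ', ?_⟩
  · rw [specializes_iff_mem_closure, ← hrange]
    exact ⟨ξ, rfl⟩
  · obtain ⟨a1, t1, n1, ha1, ht1, -, hn1, e1⟩ := CycA.IntLocal.exists_dims (i ≫ f) ξ
    obtain ⟨a2, t2, n2, ha2, ht2, -, hn2, e2⟩ := CycA.IntLocal.exists_dims (i ≫ f) (genericPoint Z)
    obtain ⟨a3, t3, n3, ha3, ht3, -, hn3, e3⟩ := CycA.IntLocal.exists_dims f (i ξ)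
    obtain ⟨a4, t4, n4, ha4, ht4, -, hn4, e4⟩ := CycA.IntLocal.exists_dims f x
    rw [Cyc.K91.FibFin.rtd_eq i f ξ, ht3] at ht1
    rw [Cyc.K91.FibFin.rtd_eq i f (genericPoint Z), hgen, ht4] at ht2
    have h1 : t3 = t1 := by exact_mod_cast ht1
    have h2 : t4 = t2 := by exact_mod_cast ht2
    have h3 : n1 = n2 := by
      rw [hn1] at hn2
      exact_mod_cast hn2
    have h4 : n3 = n4 := by
      rw [hn3] at hn4
      exact_mod_cast hn4
    have h5 : a2 = 0 := by
      have hfld : ringKrullDim (Z.presheaf.stalk (genericPoint Z)) = 0 := by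
        have : IsField (Z.presheaf.stalk (genericPoint Z)) := (Field.toIsField Z.functionField)
        exact ringKrullDim_eq_zero_of_isField this
      rw [hfld] at ha2
      exact_mod_cast ha2.symm
    have h6 : a1 ≤ 1 := by
      rw [ha1] at hle
      exact_mod_cast hle
    rw [ha3, ha4]
    have h7 : a3 ≤ a4 + 1 := by omega
    exact_mod_cast h7

theorem add_one_le_of_specializes {g z : X} (h : g ⤳ z) (hne : g ≠ z) :
    ringKrullDim (X.presheaf.stalk g) + 1 ≤ ringKrullDim (X.presheaf.stalk z) := by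
  rw [ringKrullDim_stalk_eq_coheight, ringKrullDim_stalk_eq_coheight]
  have hlt : z < g := by
    refine lt_iff_le_not_ge.2 ⟨h, fun h' => hne ?_⟩
    exact (Specializes.antisymm h (show z ⤳ g from h')).eq
  exact_mod_cast Order.coheight_add_one_le hlt

theorem three_le_of_singular [IsLocallyNoetherian X] (hXn : Pi1.IsNormalScheme X) (𝓘 : X.IdealSheafData)
    (Xreg : X.Opens) (hXreg : ∀ x : X, x ∈ Xreg ↔ IsRegularLocalRing (X.presheaf.stalk x))
    (hYsing : ∀ Z ∈ irreducibleComponents {x : X // x ∉ Xreg}, ¬ (Subtype.val '' Z ⊆ (𝓘.support : Set X)))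
    (z : X) (hz : z ∉ Xreg) (hzY : z ∈ 𝓘.support) : (3 : WithBot ℕ∞) ≤ ringKrullDim (X.presheaf.stalk z) := by
  have hcl : IsClosed {x : X | x ∉ Xreg} := Xreg.isOpen.isClosed_compl
  have : QuasiSober {x : X // x ∉ Xreg} := hcl.isClosedEmbedding_subtypeVal.quasiSober
  obtain ⟨g, hg, hgz⟩ := Groth.Agent.Fdesc.GenTop.exists_genericPoints_specializes (X := {x : X // x ∉ Xreg}) ⟨z, hz⟩
  have hgY : g.1 ∉ 𝓘.support := by
    intro h
    refine hYsing _ hg ?_
    rintro _ ⟨w, hw, rfl⟩
    have h1 : g ⤳ w := specializes_iff_mem_closure.2 hw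
    have h2 : g.1 ⤳ w.1 := h1.map continuous_subtype_val
    exact h2.mem_closed 𝓘.support.isClosed h
  have hgz' : g.1 ⤳ z := hgz.map continuous_subtype_val
  have hne : g.1 ≠ z := by
    intro h
    rw [h] at hgY
    exact hgY hzY
  have h2 : (2 : WithBot ℕ∞) ≤ ringKrullDim (X.presheaf.stalk g.1) := by
    refine K780.DepthY.two_le_of_not_le_one fun h => ?_
    obtain ⟨h3, h4⟩ := hXn g.1
    exact g.2 ((hXreg g.1).2 (Groth.Agent.S2344.isRegular_of_normal _ h))
  have h5 := add_one_le_of_specializes hgz' hne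
  have h6 : (2 : WithBot ℕ∞) + 1 ≤ ringKrullDim (X.presheaf.stalk g.1) + 1 := by gcongr
  refine le_trans (le_of_eq ?_) (h6.trans h5)
  norm_num

theorem two_le_of_nhd (f : X ⟶ Spec (CommRingCat.of K)) [IsProper f] [IsIntegral X] (hXn : Pi1.IsNormalScheme X)
    (d : ℕ) (hd : topologicalKrullDim X = d) (h3 : 3 ≤ d)
    {L : X.Modules} (hL : CohB1.IsAmple L) (s : Coh.structureModule X ⟶ L)
    (Xreg : X.Opens) (hXreg : ∀ x : X, x ∈ Xreg ↔ IsRegularLocalRing (X.presheaf.stalk x))
    (hYsing : ∀ Z ∈ irreducibleComponents {x : X // x ∉ Xreg},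
      ¬ (Subtype.val '' Z ⊆ ((PicF2.zeroScheme L s).support : Set X)))
    (V : X.Opens) (hV : ∀ x : X, x ∈ (PicF2.zeroScheme L s).support → x ∈ Xreg → x ∈ V) (x : X) (hx : x ∉ V) :
    (2 : WithBot ℕ∞) ≤ ringKrullDim (X.presheaf.stalk x) := by
  have hN : IsLocallyNoetherian X := LocallyOfFiniteType.isLocallyNoetherian f
  refine K780.DepthY.two_le_of_not_le_one fun hle => ?_
  by_cases hc : IsClosed ({x} : Set X)
  · obtain ⟨a, t, n, ha, -, ht, hn, e⟩ := CycA.IntLocal.exists_dims f x
    rw [hd] at hn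
    have h1 : d = n := by exact_mod_cast hn
    have h2 : t = 0 := by
      have h4 : topologicalKrullDim ↥(closure ({x} : Set X)) ≤ 0 := by
        rw [hc.closure_eq]
        have : DiscreteTopology ({x} : Set X) := inferInstance
        exact topologicalKrullDim_zero_of_discreteTopology ({x} : Set X)
      rw [ht] at h4
      have h5 : t ≤ 0 := by exact_mod_cast h4
      omega
    rw [ha] at hle
    have h6 : a ≤ 1 := by exact_mod_cast hle
    omega
  · obtain ⟨z, hxz, hz, hzd⟩ := exists_spec f hL s x hc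
    have hzV : z ∉ V := fun h => hx (hxz.mem_open V.isOpen h)
    have hzr : z ∉ Xreg := fun h => hzV (hV z hz h)
    have h4 := three_le_of_singular hXn (PicF2.zeroScheme L s) Xreg hXreg hYsing z hzr hz
    have h5 : ringKrullDim (X.presheaf.stalk x) + 1 ≤ 1 + 1 := by gcongr
    have h6 := h4.trans (hzd.trans h5)
    have h7 : ¬ (3 : ℕ∞) ≤ 1 + 1 := by norm_num
    exact h7 (by exact_mod_cast h6)

end K780.OpenCodim
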