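import Groth.Agent.Lef.K780.FullSys
import Groth.Agent.Lef.K780.AmpleY
import Groth.Agent.S9554
import Groth.Agent.S1691

/-!
# Sections over a big open of a proper normal variety and the completion along an ample divisor

`full_open`: for `j : U ⟶ X` a big open immersion and `E` coherent reflexive on `U`, sections of `E` are the compatible
families of sections of the quotients `E / 𝓙^(n+1) E`, `𝓙` the restriction of the ideal of an ample divisor which is
integral and normal.
-/

set_option autoImplicit false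
universe u

open CategoryTheory CategoryTheory.Limits AlgebraicGeometry Opposite

namespace K780.OpenFull

open AlgebraicGeometry.Scheme.Modules
open Groth.Agent Groth.Agent.CohqB.QC2 Groth.Agent.FormalB.KQuot
open K780.QuotSys K780.LocalRefl K780.SectBij K780.FullSys K780.AmpleY

variable {X U : Scheme.{u}}

/-- The direct image along an isomorphism is a restriction. -/
noncomputable def pushIsoRestrict {Y : Scheme.{u}} (e : U ≅ Y) (E : U.Modules) :
    (restrictFunctor e.inv).obj E ≅ (pushforward e.hom).obj E :=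
  (restrictFunctor e.inv).mapIso (((pushforwardId U).app E).symm ≪≫ (pushforwardCongr e.hom_inv_id).symm.app E ≪≫
    ((pushforwardComp e.hom e.inv).app E).symm) ≪≫
    (asIso ((restrictAdjunction e.inv).counit.app ((pushforward e.hom).obj E)))

theorem isCoh_reflexive_push (j : U ⟶ X) [IsOpenImmersion j] [IsIntegral X] [IsLocallyNoetherian X]
    (hXn : Pi1.IsNormalScheme X)
    (hUcodim : ∀ x : X, x ∉ Set.range j.base → (2 : WithBot ℕ∞) ≤ ringKrullDim (X.presheaf.stalk x))
    (E : U.Modules) (hE : Coh.IsCoh E)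
    (hEr : ∀ x : U, Module.IsReflexive (U.presheaf.stalk x) (E.presheaf.stalk x)) :
    Coh.IsCoh ((pushforward j).obj E) ∧
      ∀ x : X, Module.IsReflexive (X.presheaf.stalk x) (((pushforward j).obj E).presheaf.stalk x) := by
  let e := j.isoOpensRange
  let G : (j.opensRange : Scheme.{u}).Modules := (pushforward e.hom).obj E
  let i : (restrictFunctor e.inv).obj E ≅ G := pushIsoRestrict e E
  have hG : Coh.IsCoh G := Sga67.CohBasic.isCoh_of_iso i (CohqB.LocalQC.isCoh_restrict e.inv hE)
  have hGr : ∀ x : (j.opensRange : Scheme.{u}),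
      Module.IsReflexive ((j.opensRange : Scheme.{u}).presheaf.stalk x) (G.presheaf.stalk x) := by
    intro x
    refine Divis.ReflexSheaf.isReflexive_stalk_of_iso i x ?_
    exact (Divis.ReflexSheaf.isReflexive_restrict_iff e.inv E x).2 (hEr _)
  have hdep : ∀ x : X, x ∉ j.opensRange →
      (2 : ℕ∞) ≤ LocCoh.depth (X.presheaf.stalk x) (X.presheaf.stalk x) := by
    intro x hx
    refine two_le_depth_stalk hXn x fun h => ?_
    have h1 := (hUcodim x hx).trans h
    have h2 : ¬ (2 : ℕ∞) ≤ 1 := by norm_num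
    exact h2 (by exact_mod_cast h1)
  have key := (Groth.Agent.S1691.result X j.opensRange hdep).2 G hG hGr
  let k : (pushforward j.opensRange.ι).obj G ≅ (pushforward j).obj E :=
    (pushforwardComp e.hom j.opensRange.ι).app E ≪≫ (pushforwardCongr j.isoOpensRange_hom_ι).app E
  exact ⟨Sga67.CohBasic.isCoh_of_iso k key.1, fun x => Divis.ReflexSheaf.isReflexive_stalk_of_iso k x (key.2 x)⟩

theorem full_top (k : Type u) [Field k] (X : Scheme.{u}) (f : X ⟶ Spec (CommRingCat.of k)) [IsProper f]
    [IsIntegral X] (hXn : Pi1.IsNormalScheme X)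
    (d : ℕ) (hd : topologicalKrullDim X = d) (h3 : 3 ≤ d)
    (L : X.Modules) (hL : CohB1.IsAmple L) (s : Coh.structureModule X ⟶ L)
    (F : X.Modules) (hF : Coh.IsCoh F)
    (hFr : ∀ x : X, Module.IsReflexive (X.presheaf.stalk x) (F.presheaf.stalk x)) :
    Full (canSys (PicF2.zeroScheme L s) hF.1) ⊤ := by
  have h := Groth.Agent.S9554.result k X f L hL s F hF
    (fun x _ => one_lt_depth_add_dim f hXn hd h3 hF x (hFr x)) ⊤ (Set.subset_univ _)
  constructor
  · intro σ hσ
    exact h.1 σ hσ
  · intro y hy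
    exact h.2 y ((isFam_canSys_iff (PicF2.zeroScheme L s) hF.1 ⊤ y).1 hy)

theorem full_open (k : Type u) [Field k] (X : Scheme.{u}) (f : X ⟶ Spec (CommRingCat.of k)) [IsProper f]
    [IsIntegral X] (hXn : Pi1.IsNormalScheme X)
    (d : ℕ) (hd : topologicalKrullDim X = d) (h3 : 3 ≤ d)
    (L : X.Modules) (hL : CohB1.IsAmple L) (s : Coh.structureModule X ⟶ L)
    (hYn : Pi1.IsNormalScheme (PicF2.zeroScheme L s).subscheme)
    (hYdim : topologicalKrullDim (PicF2.zeroScheme L s).subscheme = (d - 1 : ℕ))
    (U : Scheme.{u}) (j : U ⟶ X) [IsOpenImmersion j]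
    (hUY : ∀ x : X, x ∈ ((PicF2.zeroScheme L s).support : Set X) → IsRegularLocalRing (X.presheaf.stalk x) →
      x ∈ Set.range j.base)
    (hUcodim : ∀ x : X, x ∉ Set.range j.base → (2 : WithBot ℕ∞) ≤ ringKrullDim (X.presheaf.stalk x))
    (E : U.Modules) (hE : Coh.IsCoh E)
    (hEr : ∀ x : U, Module.IsReflexive (U.presheaf.stalk x) (E.presheaf.stalk x)) :
    Full (canSys ((PicF2.zeroScheme L s).comap j) hE.1) ⊤ := by
  have hN : IsLocallyNoetherian X := LocallyOfFiniteType.isLocallyNoetherian f
  have hs : s ≠ 0 := by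
    refine ne_zero_of_dim hL.1 s ?_
    rw [hYdim, hd]
    intro h
    have : d - 1 = d := by exact_mod_cast h
    omega
  have hreg : RegImm.IsRegularIdeal RegImm.Kind.regular (PicF2.zeroScheme L s) :=
    isRegularIdeal_of_effCartier (K513.Theta1.isEffCartierIdeal_zeroScheme hL.1 s hs)
  obtain ⟨hF, hFr⟩ := isCoh_reflexive_push j hXn hUcodim E hE hEr
  have h1 := full_top k X f hXn d hd h3 L hL s _ hF hFr
  have h2 := bij (PicF2.zeroScheme L s) hreg hYn hF hFr (canSys (PicF2.zeroScheme L s) hF.1)
    (U := j.opensRange) hUY le_top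
  have h3 : Full (canSys (PicF2.zeroScheme L s) hF.1) j.opensRange := by
    refine full_of_bij h2 h1 ?_
    have he : j ⁻¹ᵁ ⊤ = j ⁻¹ᵁ j.opensRange := by
      rw [Scheme.Hom.preimage_opensRange]
      rfl
    exact res_injective_of_eq E (j.preimage_mono le_top) he
  have h4 := full_restr j (V := ⊤) (h3.congr (Scheme.Hom.image_top_eq_opensRange j).symm)
  exact h4.of_iso _ (asIso ((restrictAdjunction j).counit.app E))

end K780.OpenFull
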