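import Groth.Agent.Lef.K183.OpenQuot

/-!
# Inverse systems of quotients by the powers of an ideal, and their families of sections

`QSys 𝓘 M`: modules `Q n` with quotient maps `M ⟶ Q n` by `𝓘^(n+1)`, with transition maps.
`S.IsFam W y`: compatible families of sections over `W`.
`S.Bij V U`: restriction from `V` to `U ≤ V` is bijective on compatible families; `bij_of_affine` is the passage from
affine opens `V` (with `U ⊓ V`) to the whole scheme.
-/

set_option autoImplicit false
universe u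

open CategoryTheory CategoryTheory.Limits AlgebraicGeometry Opposite

namespace K780.QuotSys

open AlgebraicGeometry.Scheme.Modules
open Groth.Agent Groth.Agent.CohqB.QC2 Groth.Agent.FormalB.KQuot

variable {X : Scheme.{u}} {𝓘 : X.IdealSheafData} {M N : X.Modules}

/-- An inverse system of quotients `M / 𝓘^(n+1)`. -/
structure QSys (𝓘 : X.IdealSheafData) (M : X.Modules) where
  Q : ℕ → X.Modules
  u : ∀ n, M ⟶ Q n
  t : ∀ n, Q (n + 1) ⟶ Q n
  ut : ∀ n, u (n + 1) ≫ t n = u n
  kq : ∀ n, IsKQuot (𝓘 ^ (n + 1)) (u n)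

namespace QSys

variable (S : QSys 𝓘 M) (T : QSys 𝓘 N)

theorem epi_u (n : ℕ) : Epi (S.u n) := (S.kq n).epi

/-- Compatible families of sections. -/
def IsFam (W : X.Opens) (y : ∀ n, Γ(S.Q n, W)) : Prop := ∀ n, (S.t n).app W (y (n + 1)) = y n

theorem t_u (n : ℕ) (W : X.Opens) (m : Γ(M, W)) :
    (S.t n).app W ((S.u (n + 1)).app W m) = (S.u n).app W m := by
  have := congr(($(S.ut n)).app W m)
  exact this

variable {S} in
theorem IsFam.res {V W : X.Opens} {y : ∀ n, Γ(S.Q n, V)} (hy : S.IsFam V y) (h : W ≤ V) :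
    S.IsFam W (fun n => res (S.Q n) h (y n)) := by
  intro n
  rw [app_res, hy n]

/-- Restriction of families from `V` to `U` is bijective. -/
structure Bij (V U : X.Opens) (h : U ≤ V) : Prop where
  inj : ∀ y : (∀ n, Γ(S.Q n, V)), S.IsFam V y → (∀ n, res (S.Q n) h (y n) = 0) → ∀ n, y n = 0
  surj : ∀ z : (∀ n, Γ(S.Q n, U)), S.IsFam U z →
    ∃ y : (∀ n, Γ(S.Q n, V)), S.IsFam V y ∧ ∀ n, res (S.Q n) h (y n) = z n

/-- The maps induced on the quotients. -/
noncomputable def map (φ : M ⟶ N) (n : ℕ) : S.Q n ⟶ T.Q n := ((S.kq n).exists_map (T.kq n) φ).choose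

@[reassoc]
theorem u_map (φ : M ⟶ N) (n : ℕ) : S.u n ≫ S.map T φ n = φ ≫ T.u n :=
  ((S.kq n).exists_map (T.kq n) φ).choose_spec

@[reassoc]
theorem t_map (φ : M ⟶ N) (n : ℕ) : S.t n ≫ S.map T φ n = S.map T φ (n + 1) ≫ T.t n := by
  have := S.epi_u (n + 1)
  rw [← cancel_epi (S.u (n + 1)), reassoc_of% (S.ut n), u_map, u_map_assoc, T.ut]

theorem map_u (φ : M ⟶ N) (n : ℕ) (W : X.Opens) (m : Γ(M, W)) :
    (S.map T φ n).app W ((S.u n).app W m) = (T.u n).app W (φ.app W m) := by
  have := congr(($(S.u_map T φ n)).app W m)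
  exact this

variable {S} in
theorem IsFam.map {W : X.Opens} {y : ∀ n, Γ(S.Q n, W)} (hy : S.IsFam W y) (φ : M ⟶ N) :
    T.IsFam W (fun n => (S.map T φ n).app W (y n)) := by
  intro n
  have h1 := congr(($(S.t_map T φ n)).app W (y (n + 1)))
  have h2 : (S.map T φ n).app W ((S.t n).app W (y (n + 1))) =
    (T.t n).app W ((S.map T φ (n + 1)).app W (y (n + 1))) := h1
  rw [hy n] at h2
  exact h2.symm

theorem map_id_app (n : ℕ) : S.map S (𝟙 M) n = 𝟙 _ := by
  have := S.epi_u n
  rw [← cancel_epi (S.u n), u_map, Category.id_comp, Category.comp_id]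

theorem map_comp_app {P : X.Modules} (R : QSys 𝓘 P) (φ : M ⟶ N) (ψ : N ⟶ P) (n : ℕ) :
    S.map T φ n ≫ T.map R ψ n = S.map R (φ ≫ ψ) n := by
  have := S.epi_u n
  rw [← cancel_epi (S.u n), u_map_assoc, u_map, u_map, Category.assoc]

/-- `Bij` does not depend on the system. -/
theorem Bij.of_iso {S : QSys 𝓘 M} {V U : X.Opens} {h : U ≤ V} (hS : S.Bij V U h) (T : QSys 𝓘 N) (e : M ≅ N) :
    T.Bij V U h := by
  have h1 : ∀ (n : ℕ) (W : X.Opens) (y : Γ(T.Q n, W)),
      (S.map T e.hom n).app W ((T.map S e.inv n).app W y) = y := by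
    intro n W y
    have h2 := congr(($(T.map_comp_app S T e.inv e.hom n)).app W y)
    rw [e.inv_hom_id, map_id_app] at h2
    exact h2
  constructor
  · intro y hy hy0 n
    have h2 := hS.inj _ (hy.map S e.inv) (fun n => by
      rw [← app_res, hy0 n, map_zero]) n
    rw [← h1 n V (y n), h2, map_zero]
  · intro z hz
    obtain ⟨y, hy, hyz⟩ := hS.surj _ (hz.map S e.inv)
    refine ⟨_, hy.map T e.hom, fun n => ?_⟩
    rw [← app_res, hyz, h1]

/-- The system restricted along an open immersion. -/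
noncomputable def restr {U : Scheme.{u}} (j : U ⟶ X) [IsOpenImmersion j] :
    QSys (𝓘.comap j) ((restrictFunctor j).obj M) where
  Q n := (restrictFunctor j).obj (S.Q n)
  u n := (restrictFunctor j).map (S.u n)
  t n := (restrictFunctor j).map (S.t n)
  ut n := by rw [← Functor.map_comp, S.ut]
  kq n := by
    rw [← Divis.IdealComap.comap_pow]
    exact K183.OpenQuot.isKQuot_restrict j (S.kq n)

/-- Change of the source module along an isomorphism. -/
def isoComp {N : X.Modules} (e : N ≅ M) : QSys 𝓘 N where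
  Q := S.Q
  u n := e.hom ≫ S.u n
  t := S.t
  ut n := by rw [Category.assoc, S.ut]
  kq n := (S.kq n).iso_comp e.hom

section Glue

variable (U : X.Opens)

variable {S} in
theorem IsFam.eq_of_res {V : X.Opens} {y y' : ∀ n, Γ(S.Q n, V)} (hy : S.IsFam V y) (hy' : S.IsFam V y')
    (h : ∀ W : X.Opens, IsAffineOpen W → ∀ hW : W ≤ V, S.Bij W (W ⊓ U) inf_le_left)
    (hU : ∀ n, CohqB.QC2.res (S.Q n) (inf_le_left : V ⊓ U ≤ V) (y n) = CohqB.QC2.res (S.Q n) inf_le_left (y' n)) (n : ℕ) :
    y n = y' n := by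
  refine section_ext (S.Q n) (ι := {p : V // True}) (fun p => (exists_isAffineOpen_mem_and_subset (x := p.1.1) (U := V) p.1.2).choose)
    (fun p => (exists_isAffineOpen_mem_and_subset (x := p.1.1) (U := V) p.1.2).choose_spec.2.2) ?_ _ _ ?_
  · intro x hx
    exact TopologicalSpace.Opens.mem_iSup.2 ⟨⟨⟨x, hx⟩, trivial⟩,
      (exists_isAffineOpen_mem_and_subset (x := x) (U := V) hx).choose_spec.2.1⟩
  · rintro ⟨p, -⟩
    obtain ⟨hW, hpW, hWV⟩ := (exists_isAffineOpen_mem_and_subset (x := p.1) (U := V) p.2).choose_spec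
    have hWV' : (exists_isAffineOpen_mem_and_subset (x := p.1) (U := V) p.2).choose ≤ V := hWV
    have h1 := (h _ hW hWV').inj
      (fun n => CohqB.QC2.res (S.Q n) hWV' (y n) - CohqB.QC2.res (S.Q n) hWV' (y' n)) (fun n => by
        rw [map_sub, app_res, app_res, hy n, hy' n]) (fun n => by
        rw [map_sub, CohqB.QC2.res_res, CohqB.QC2.res_res, sub_eq_zero,
          ← CohqB.QC2.res_res (S.Q n) (inf_le_left : V ⊓ U ≤ V) (inf_le_inf_right U hWV'),
          ← CohqB.QC2.res_res (S.Q n) (inf_le_left : V ⊓ U ≤ V) (inf_le_inf_right U hWV'), hU n]) n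
    exact sub_eq_zero.1 h1

/-- From affine opens to arbitrary opens. -/
theorem bij_of_affine (h : ∀ W : X.Opens, IsAffineOpen W → S.Bij W (W ⊓ U) inf_le_left) (V : X.Opens) :
    S.Bij V (V ⊓ U) inf_le_left := by
  constructor
  · intro y hy hy0 n
    have h0 : S.IsFam V (fun n => 0) := fun n => map_zero _
    exact hy.eq_of_res U h0 (fun W hW _ => h W hW) (fun n => by rw [hy0 n, map_zero]) n
  · intro z hz
    let W : V → X.Opens := fun p => (exists_isAffineOpen_mem_and_subset (x := p.1) (U := V) p.2).choose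
    have hWa : ∀ p, IsAffineOpen (W p) := fun p =>
      (exists_isAffineOpen_mem_and_subset (x := p.1) (U := V) p.2).choose_spec.1
    have hWm : ∀ p : V, p.1 ∈ W p := fun p =>
      (exists_isAffineOpen_mem_and_subset (x := p.1) (U := V) p.2).choose_spec.2.1
    have hWV : ∀ p, W p ≤ V := fun p =>
      (exists_isAffineOpen_mem_and_subset (x := p.1) (U := V) p.2).choose_spec.2.2
    have hcov : V ≤ ⨆ p, W p := fun x hx => TopologicalSpace.Opens.mem_iSup.2 ⟨⟨x, hx⟩, hWm ⟨x, hx⟩⟩
    choose y hy hyz using fun p => (h (W p) (hWa p)).surj _ (hz.res (inf_le_inf_right U (hWV p)))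
    have hagree : ∀ (n : ℕ) (p q : V), CohqB.QC2.res (S.Q n) (inf_le_left : W p ⊓ W q ≤ W p) (y p n) =
        CohqB.QC2.res (S.Q n) (inf_le_right : W p ⊓ W q ≤ W q) (y q n) := by
      intro n p q
      refine ((hy p).res inf_le_left).eq_of_res U ((hy q).res inf_le_right) (fun W hW _ => h W hW) ?_ n
      intro n
      rw [CohqB.QC2.res_res, CohqB.QC2.res_res]
      have e1 : CohqB.QC2.res (S.Q n) (inf_le_left.trans inf_le_left : W p ⊓ W q ⊓ U ≤ W p) (y p n) =
          CohqB.QC2.res (S.Q n) (inf_le_inf_right U inf_le_left : W p ⊓ W q ⊓ U ≤ W p ⊓ U)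
            (CohqB.QC2.res (S.Q n) inf_le_left (y p n)) := (CohqB.QC2.res_res _ _ _ _).symm
      have e2 : CohqB.QC2.res (S.Q n) (inf_le_left.trans inf_le_right : W p ⊓ W q ⊓ U ≤ W q) (y q n) =
          CohqB.QC2.res (S.Q n) (inf_le_inf_right U inf_le_right : W p ⊓ W q ⊓ U ≤ W q ⊓ U)
            (CohqB.QC2.res (S.Q n) inf_le_left (y q n)) := (CohqB.QC2.res_res _ _ _ _).symm
      rw [e1, e2, hyz, hyz, CohqB.QC2.res_res, CohqB.QC2.res_res]
    choose w hw using fun n => exists_glue (S.Q n) W hWV hcov (fun p => y p n) (fun p q => hagree n p q)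
    refine ⟨w, fun n => ?_, fun n => ?_⟩
    · refine section_ext (S.Q n) W hWV hcov _ _ fun p => ?_
      rw [← app_res, hw, hw]
      exact hy p n
    · refine section_ext (S.Q n) (U := V ⊓ U) (fun p => W p ⊓ U) (fun p => inf_le_inf_right U (hWV p)) ?_ _ _
        fun p => ?_
      · rw [← iSup_inf_eq]
        exact inf_le_inf_right U hcov
      · rw [← hyz p n, CohqB.QC2.res_res, ← hw n p, CohqB.QC2.res_res]

theorem Bij.congr {S : QSys 𝓘 M} {V U U' : X.Opens} {h : U ≤ V} (hS : S.Bij V U h) (e : U = U') (h' : U' ≤ V) :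
    S.Bij V U' h' := by
  subst e
  exact hS

theorem bij_of_affine' (h : ∀ W : X.Opens, IsAffineOpen W → S.Bij W (W ⊓ U) inf_le_left) {V : X.Opens} (hUV : U ≤ V) :
    S.Bij V U hUV := by
  have e : V ⊓ U = U := inf_eq_right.2 hUV
  exact (S.bij_of_affine U h V).congr e hUV

end Glue

end QSys

end K780.QuotSys
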