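import Groth.Agent.Lef.K780.LocalRefl
import Groth.Agent.Lef.K780.DepthY
import Groth.Agent.Divis.ReflexExtend
import Groth.Agent.Divis.ReflexSheaf
import Groth.Agent.Dcoh.Restrict
import Groth.Agent.CohqB.LocalQC
import Groth.Agent.Lef.K780.CanTr

/-!
# Formal sections of a reflexive module extend over a big open

`bij`: for `X` integral, 𝓘 locally generated by regular sequences with `V(𝓘)` normal, `U ≤ V` opens such that the regular
points of `X` in `V ∩ V(𝓘)` are in `U`, and `M` coherent reflexive, restriction from `V` to `U` is bijective on compatible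
families of sections of `M / 𝓘^(n+1) M`.
-/

set_option autoImplicit false
universe u

open CategoryTheory CategoryTheory.Limits AlgebraicGeometry Opposite

namespace K780.SectBij

open AlgebraicGeometry.Scheme.Modules
open Groth.Agent Groth.Agent.CohqB.QC2 Groth.Agent.FormalB Groth.Agent.FormalB.KQuot
open K780.QuotSys K780.LocalRefl

variable {X : Scheme.{u}}

/-- The system `O/𝓘^(n+1)`. -/
noncomputable def unitSys (𝓘 : X.IdealSheafData) : QSys 𝓘 (Coh.structureModule X) where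
  Q n := ClSub.quotMod (𝓘 ^ (n + 1))
  u n := K183.LimDual.um (𝓘 ^ (n + 1))
  t n := Lef.quotMap (Lef.pow_succ_le 𝓘 n)
  ut _ := K183.LimDual.um_quotMap _
  kq _ := K183.LimDual.isKQuot_um _

/-- The system of `completionMod`. -/
noncomputable def canSys (𝓘 : X.IdealSheafData) {M : X.Modules} (hM : Coh.IsQCoh M) : QSys 𝓘 M where
  Q n := Sga2lef.H96.ModSysPush.pm (FSch.completionMod 𝓘 M) n
  u n := K780.CanTr.canU 𝓘 M n
  t n := Sga2lef.H96.ModSysPush.ptr (FSch.completionMod 𝓘 M) n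
  ut n := K780.CanTr.canU_ptr M n
  kq n := K179.CompSys.isKQuot_un 𝓘 hM n

/-- Compatible families of `canSys` in the frozen spelling. -/
theorem isFam_canSys_iff (𝓘 : X.IdealSheafData) {M : X.Modules} (hM : Coh.IsQCoh M) (V : X.Opens)
    (y : ∀ n : ℕ, (Scheme.Modules.presheaf ((Scheme.Modules.pushforward (FSch.completionToX X 𝓘 n)).obj
      ((FSch.completionMod 𝓘 M).F n))).obj (Opposite.op V)) :
    (canSys 𝓘 hM).IsFam V y ↔ ∀ n : ℕ, Scheme.Modules.Hom.app (((Scheme.Modules.pushforward (FSch.completionToX X 𝓘 (n + 1))).map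
            ((Scheme.Modules.pullbackPushforwardAdjunction ((FSch.completionAlong X 𝓘).ι n)).unit.app ((FSch.completionMod 𝓘 M).F (n + 1))) ≫
          (Scheme.Modules.pushforwardComp ((FSch.completionAlong X 𝓘).ι n) (FSch.completionToX X 𝓘 (n + 1))).hom.app ((Scheme.Modules.pullback ((FSch.completionAlong X 𝓘).ι n)).obj ((FSch.completionMod 𝓘 M).F (n + 1))) ≫
          (Scheme.Modules.pushforwardCongr (Scheme.IdealSheafData.inclusion_subschemeι (FSch.pow_succ_le X 𝓘 n))).hom.app ((Scheme.Modules.pullback ((FSch.completionAlong X 𝓘).ι n)).obj ((FSch.completionMod 𝓘 M).F (n + 1))) ≫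
          (Scheme.Modules.pushforward (FSch.completionToX X 𝓘 n)).map ((FSch.completionMod 𝓘 M).e n).hom)) V (y (n + 1)) = y n := by
  refine forall_congr' fun n => ?_
  rw [K780.CanTr.canT_eq (FSch.completionMod 𝓘 M) n]
  exact Iff.rfl

theorem bij_of_restr {𝓘 : X.IdealSheafData} {M : X.Modules} (S : QSys 𝓘 M) {Y : Scheme.{u}} (j : Y ⟶ X)
    [IsOpenImmersion j] {V U : Y.Opens} {h : U ≤ V} (hb : (S.restr j).Bij V U h) :
    S.Bij (j ''ᵁ V) (j ''ᵁ U) (Scheme.Hom.image_mono j h) := by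
  constructor
  · intro y hy hy0 n
    exact hb.inj y hy hy0 n
  · intro z hz
    exact hb.surj z hz

theorem bij_congr {𝓘 : X.IdealSheafData} {M : X.Modules} {S : QSys 𝓘 M} {V V' U U' : X.Opens} {h : U ≤ V}
    (hb : S.Bij V U h) (e : V = V') (e' : U = U') (h' : U' ≤ V') : S.Bij V' U' h' := by
  subst e
  subst e'
  exact hb

variable (𝓘 : X.IdealSheafData)

theorem bij_affine [IsIntegral X] [IsLocallyNoetherian X]
    (hreg : RegImm.IsRegularIdeal RegImm.Kind.regular 𝓘) (hYn : Pi1.IsNormalScheme 𝓘.subscheme)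
    (U : X.Opens) {M : X.Modules} (hM : Coh.IsCoh M)
    (hMr : ∀ x : X, Module.IsReflexive (X.presheaf.stalk x) (M.presheaf.stalk x)) (S : QSys 𝓘 M)
    {W : X.Opens} (hW : IsAffineOpen W)
    (hU : ∀ x : X, x ∈ W → x ∈ (𝓘.support : Set X) → IsRegularLocalRing (X.presheaf.stalk x) → x ∈ U) :
    S.Bij W (W ⊓ U) inf_le_left := by
  have haff : IsAffine (W : Scheme.{u}) := hW
  have hnoeth : IsLocallyNoetherian (W : Scheme.{u}) := inferInstance
  have hMW : Coh.IsCoh (M.restrict W.ι) := CohqB.LocalQC.isCoh_restrict W.ι hM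
  have hrefl : Module.IsReflexive Γ((W : Scheme.{u}), ⊤) Γ(M.restrict W.ι, ⊤) := by
    have h1 : W.ι ''ᵁ ⊤ = W := W.ι_image_top
    have h2 : Module.IsReflexive Γ(X, W.ι ''ᵁ ⊤) Γ(M, W.ι ''ᵁ ⊤) := by
      refine Divis.ReflexExtend.isReflexive_sections hM ⊤ (fun x _ => hMr x) (V := W.ι ''ᵁ ⊤) ?_ ?_
      · rw [h1]; exact hW
      · exact res_injective_of_eq _ _ (inf_top_eq _).symm
    exact Divis.ReflexSheaf.isReflexive_of_semilinear (W.ι.appIso ⊤).commRingCatIsoToRingEquiv
      (invM M W.ι ⊤).symm (fun r m => by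
        apply (invM M W.ι ⊤).injective
        rw [AddEquiv.apply_symm_apply, invM_smul, AddEquiv.apply_symm_apply]
        congr 1
        exact ((W.ι.appIso ⊤).commRingCatIsoToRingEquiv.symm_apply_apply r).symm)
  have key := bij_of_reflexive hMW hrefl (S.restr W.ι)
    (((unitSys 𝓘).restr W.ι).isoComp (Dcoh.Restrict.restrictUnit W.ι).symm) (W.ι ⁻¹ᵁ U) (fun n => ?_)
  · refine bij_congr (bij_of_restr S W.ι key) W.ι_image_top ?_ _
    rw [Scheme.Hom.image_preimage_eq_opensRange_inf, Scheme.Opens.opensRange_ι]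
  · have hle : W.ι ''ᵁ W.ι ⁻¹ᵁ U ≤ W.ι ''ᵁ ⊤ := Scheme.Hom.image_mono _ le_top
    refine K780.DepthY.bijective_quotMod hreg hYn hle (fun x hx hx' hr => ?_) n
    rw [W.ι_image_top] at hx
    rw [Scheme.Hom.image_preimage_eq_opensRange_inf, Scheme.Opens.opensRange_ι]
    exact ⟨hx, hU x hx hx' hr⟩

theorem bij [IsIntegral X] [IsLocallyNoetherian X]
    (hreg : RegImm.IsRegularIdeal RegImm.Kind.regular 𝓘) (hYn : Pi1.IsNormalScheme 𝓘.subscheme)
    {U : X.Opens} {M : X.Modules} (hM : Coh.IsCoh M)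
    (hMr : ∀ x : X, Module.IsReflexive (X.presheaf.stalk x) (M.presheaf.stalk x)) (S : QSys 𝓘 M)
    (hU : ∀ x : X, x ∈ (𝓘.support : Set X) → IsRegularLocalRing (X.presheaf.stalk x) → x ∈ U)
    {V : X.Opens} (hUV : U ≤ V) :
    S.Bij V U hUV :=
  S.bij_of_affine' U (fun _ hW => bij_affine 𝓘 hreg hYn U hM hMr S hW fun x _ => hU x) hUV

end K780.SectBij
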